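import Mathlib
import Cfsg.Agent.Lib.FischerMTypes.Aut22.Fix
import Cfsg.Agent.Lib.FischerMTypes.PairSocleM22

/-!
Type M(22): automorphisms preserve the class of transpositions, and an automorphism fixing the perp
set of a transposition pointwise is trivial or conjugation by it.

Owner: helper6.
-/

set_option autoImplicit false
set_option linter.style.haveILetI false
set_option linter.unusedSectionVars false

namespace Cfsg.Agent.Lib.FischerAut6

open Cfsg.Agent.Lib.FischerMTypes Cfsg.Agent.Lib.FischerMTypes.Basic Cfsg.Agent.Lib.FischerMTypes.Primitive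
  Cfsg.Agent.Lib.FischerMTypes.Levels Cfsg.Agent.Lib.FischerMTypes.PointModel
  Cfsg.Agent.Lib.FischerMTypes.TraceCounts

/-! ### finite groups -/

/-- a generating set whose size is at most the logarithm of the order -/
theorem exists_small_generators (X : Type*) [Group X] [Finite X] :
    ∃ S : Finset X, Subgroup.closure (S : Set X) = ⊤ ∧ 2 ^ S.card ≤ Nat.card X := by
  classical
  suffices key : ∀ n, ∀ H : Subgroup X, H.index = n →
      ∃ S : Finset X, H ⊔ Subgroup.closure (S : Set X) = ⊤ ∧ 2 ^ S.card * Nat.card ↥H ≤ Nat.card X by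
    obtain ⟨S, hS, hle⟩ := key _ ⊥ rfl
    exact ⟨S, by rwa [bot_sup_eq] at hS, by simpa using hle⟩
  intro n
  induction n using Nat.strong_induction_on with
  | _ n ih =>
    intro H hn
    by_cases htop : H = ⊤
    · exact ⟨∅, by simp [htop], by rw [Finset.card_empty, pow_zero, one_mul]; exact Subgroup.card_le_card_group H⟩
    obtain ⟨s, hs⟩ : ∃ s, s ∉ H := by
      by_contra hcon
      push Not at hcon
      exact htop (eq_top_iff.mpr fun x _ => hcon x)
    set K := H ⊔ Subgroup.zpowers s with hK
    have hHK : H ≤ K := le_sup_left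
    have hne : H.relIndex K ≠ 1 := fun h =>
      hs (Subgroup.relIndex_eq_one.mp h (Subgroup.mem_sup_right (Subgroup.mem_zpowers s)))
    have h0 : H.relIndex K ≠ 0 := fun h => by
      have := Subgroup.relIndex_mul_index hHK
      rw [h, zero_mul] at this
      exact Subgroup.index_ne_zero_of_finite this.symm
    have hmul := Subgroup.relIndex_mul_index hHK
    have hlt : K.index < n := by
      rw [← hn, ← hmul]
      exact lt_mul_of_one_lt_left (Nat.pos_of_ne_zero Subgroup.index_ne_zero_of_finite) (by omega)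
    obtain ⟨S, hS, hle⟩ := ih _ hlt K rfl
    refine ⟨insert s S, ?_, ?_⟩
    · rw [eq_top_iff, ← hS, hK]
      refine sup_le (sup_le le_sup_left ?_) (le_sup_of_le_right (Subgroup.closure_mono (by simp)))
      rw [Subgroup.zpowers_le]
      exact Subgroup.mem_sup_right (Subgroup.subset_closure (by simp))
    · have h2 : 2 * Nat.card ↥H ≤ Nat.card ↥K := by
        have e := Subgroup.card_eq_card_quotient_mul_card_subgroup (H.subgroupOf K)
        rw [Nat.card_congr (Subgroup.subgroupOfEquivOfLe hHK).toEquiv] at e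
        change Nat.card ↥K = H.relIndex K * Nat.card ↥H at e
        rw [e]
        exact Nat.mul_le_mul_right _ (by omega)
      have hc := Finset.card_insert_le s S
      calc 2 ^ (insert s S).card * Nat.card ↥H ≤ 2 ^ (S.card + 1) * Nat.card ↥H :=
            Nat.mul_le_mul_right _ (Nat.pow_le_pow_right (by norm_num) hc)
        _ = 2 ^ S.card * (2 * Nat.card ↥H) := by ring
        _ ≤ 2 ^ S.card * Nat.card ↥K := Nat.mul_le_mul_left _ h2
        _ ≤ Nat.card X := hle

/-- there are no more homomorphisms to a group of order two than elements -/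
theorem card_hom_two_le (X : Type*) [Group X] [Finite X] (C : Type*) [Group C] (hC : Nat.card C = 2) :
    Nat.card (X →* C) ≤ Nat.card X := by
  haveI : Finite C := Nat.finite_of_card_ne_zero (by omega)
  obtain ⟨S, hS, hle⟩ := exists_small_generators X
  refine le_trans ?_ hle
  have hinj : Function.Injective (fun (f : X →* C) (s : S) => f s) := fun f g h =>
    MonoidHom.eq_of_eqOn_dense hS fun x hx => congrFun h ⟨x, hx⟩
  have h := Nat.card_le_card_of_injective _ hinj
  rwa [Nat.card_fun, hC, Nat.card_eq_finsetCard] at h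

/-! ### automorphisms -/

variable {G : Type*} [Group G] [Finite G] {D : Set G}
variable {F : Type} [Field F] [Fintype F]

/-- conjugation, as a map into the automorphism group -/
abbrev inn (G : Type*) [Group G] : G →* MulAut G := MulAut.conj

theorem mul_inn_mul_inv (φ : MulAut G) (g : G) : φ * inn G g * φ⁻¹ = inn G (φ g) := by
  refine MulEquiv.ext fun x => ?_
  show φ (g * φ⁻¹ x * g⁻¹) = φ g * x * (φ g)⁻¹
  rw [map_mul, map_mul, map_inv, show φ (φ⁻¹ x) = x from φ.apply_symm_apply x]

instance inn_range_normal : (inn G).range.Normal := ⟨by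
  rintro _ ⟨g, rfl⟩ φ
  exact ⟨φ g, (mul_inn_mul_inv φ g).symm⟩⟩

theorem inn_injective (hZ : Subgroup.center G = ⊥) : Function.Injective (inn G) := by
  rw [injective_iff_map_eq_one]
  intro x hx
  rw [← Subgroup.mem_bot, ← hZ, Subgroup.mem_center_iff]
  intro y
  have := MulEquiv.ext_iff.mp hx y
  rw [MulAut.conj_apply, MulAut.one_apply, mul_inv_eq_iff_eq_mul] at this
  exact this.symm

variable (S : Sys D F)

include S in
theorem mem_image_of_aut (φ : MulAut G) {x : G} (hx : x ∈ D) : φ x ∈ D := by
  have himage : φ '' D = D := by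
    refine OtherClasses.class_eq S _ ?_
    obtain ⟨⟨h1, h2⟩, hc, hg⟩ := S.hD
    obtain ⟨d, hd, -⟩ := S.hprim.2.1
    refine ⟨⟨?_, ?_⟩, ⟨φ d, ?_, ?_⟩, ?_⟩
    · rintro _ ⟨x, hx, rfl⟩
      rw [show orderOf (φ x) = orderOf x from orderOf_injective φ.toMonoidHom φ.injective x, h1 x hx]
    · rintro _ ⟨x, hx, rfl⟩ _ ⟨y, hy, rfl⟩
      rcases h2 x hx y hy with h | h
      · exact Or.inl (by rw [← map_mul, ← map_pow, h, map_one])
      · exact Or.inr (by rw [← map_mul, ← map_pow, h, map_one])
    · exact Set.mem_image_of_mem φ hd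
    · ext y
      constructor
      · rintro ⟨x, hx, rfl⟩
        exact MonoidHom.map_isConj φ.toMonoidHom (isConj_iff.mpr (S.hprim.1 d hd x hx))
      · intro hy
        refine ⟨φ.symm y, ?_, φ.apply_symm_apply y⟩
        have h : IsConj d (φ.symm y) := by
          simpa using MonoidHom.map_isConj φ.symm.toMonoidHom hy
        obtain ⟨g, hg⟩ := isConj_iff.mp h
        exact hg ▸ hc g d hd
    · have := congrArg (Subgroup.map φ.toMonoidHom) hg
      rwa [MonoidHom.map_closure, Subgroup.map_top_of_surjective _ φ.surjective] at this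
  exact himage ▸ Set.mem_image_of_mem φ hx

omit [Finite G] in
theorem commute_aut_iff (φ : MulAut G) (x y : G) : Commute (φ x) (φ y) ↔ Commute x y :=
  ⟨fun h => by simpa using h.map φ.symm.toMonoidHom, fun h => h.map φ.toMonoidHom⟩

include S in
theorem aut_perp {φ : MulAut G} {a y : G} (hy : y ∈ perp D a) : φ y ∈ perp D (φ a) :=
  ⟨mem_image_of_aut S φ hy.1, fun h => hy.2.1 (φ.injective h), (commute_aut_iff φ a y).mpr hy.2.2⟩

include S in
theorem aut_perp₂ {φ : MulAut G} {a b y : G} (hy : y ∈ perp₂ D a b) : φ y ∈ perp₂ D (φ a) (φ b) :=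
  ⟨aut_perp S hy.1, aut_perp S hy.2⟩

include S in
/-- an automorphism fixing a perp set pointwise is trivial or the conjugation -/
theorem rigid {φ : MulAut G} {a : G} (ha : a ∈ D) (hfa : φ a = a) (hperp : ∀ y ∈ perp D a, φ y = y) :
    φ = 1 ∨ φ = inn G a := by
  classical
  have hH : ∀ h ∈ Subgroup.closure (perp D a), φ h = h := by
    intro h hh
    exact MonoidHom.eqOn_closure (f := φ.toMonoidHom) (g := MonoidHom.id G) hperp hh
  -- the two choices on the far set
  have hfar : ∀ x ∈ D, ¬ Commute a x → φ x = x ∨ φ x = a * x * a := by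
    intro x hx hax
    have hux : φ x ∈ D := mem_image_of_aut S φ hx
    have hnc : ¬ Commute a (φ x) := fun h => hax ((commute_aut_iff φ a x).mp (by rw [hfa]; exact h))
    obtain ⟨q, hq⟩ : (perp₂ D a x).Nonempty :=
      Set.nonempty_of_ncard_ne_zero (by rw [TraceSize.ncard_trace S ha hx hax]; norm_num)
    have hq' : φ q = q := hperp q hq.1
    have hqD := hq.1.1
    have haq : a ∈ perp D q := ⟨ha, Ne.symm hq.1.2.1, hq.1.2.2.symm⟩
    have hxq : x ∈ perp D q := ⟨hx, Ne.symm hq.2.2.1, hq.2.2.2.symm⟩
    have huq : φ x ∈ perp D q := by simpa [hq'] using aut_perp S (φ := φ) hxq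
    rcases (S.ctx q hqD).line_points haq hxq huq hax (fun w hw haw hxw => by
      by_cases hwa : w = a
      · exact absurd (hwa ▸ hxw.symm) hax
      · have hw' : φ w = w := hperp w ⟨hw.1, hwa, haw⟩
        rw [← hw']
        exact (commute_aut_iff φ x w).mpr hxw) with h | h | h
    · exact absurd (show Commute a (φ x) by rw [h]) hnc
    · exact Or.inl h
    · exact Or.inr h
  have hperpconj : ∀ y ∈ perp D a, inn G a y = y := fun y hy => by
    rw [MulAut.conj_apply, hy.2.2.eq, mul_inv_cancel_right]
  have hext : ∀ ψ : MulAut G, (∀ x ∈ D, φ x = ψ x) → φ = ψ := fun ψ h =>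
    MulEquiv.ext fun g => MonoidHom.eqOn_closure (f := φ.toMonoidHom) (g := ψ.toMonoidHom) h
      (S.hD.2.2 ▸ Subgroup.mem_top g)
  have hsame : ∀ x x' : G, x ∈ D → ¬ Commute a x → x' ∈ D → ¬ Commute a x' → φ x = x → φ x' = x' := by
    intro x x' hx hax hx' hax' he
    obtain ⟨k, hk, rfl⟩ := S.exists_conj_near ha (TraceSize.mem_near S ha hx hax) (TraceSize.mem_near S ha hx' hax')
    rw [map_mul, map_mul, map_inv, hH k hk, he]
  by_cases hall : ∀ x ∈ D, ¬ Commute a x → φ x = x
  · refine Or.inl (hext 1 fun x hx => ?_)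
    rw [MulAut.one_apply]
    by_cases hc : Commute a x
    · by_cases hxa : x = a
      · rw [hxa, hfa]
      · exact hperp x ⟨hx, hxa, hc⟩
    · exact hall x hx hc
  · push Not at hall
    obtain ⟨x₀, hx₀, hax₀, hne⟩ := hall
    refine Or.inr (hext (inn G a) fun x hx => ?_)
    by_cases hc : Commute a x
    · by_cases hxa : x = a
      · rw [hxa, hfa, MulAut.conj_apply, mul_inv_cancel_right]
      · rw [hperp x ⟨hx, hxa, hc⟩, hperpconj x ⟨hx, hxa, hc⟩]
    · rw [MulAut.conj_apply, inv_eq S.hD.1 ha]
      exact (hfar x hx hc).resolve_left fun he => hne (hsame x x₀ hx hc hx₀ hax₀ he)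

include S in
/-- every automorphism can be corrected by conjugation to fix a given commuting pair -/
theorem exists_fix_pair (φ : MulAut G) {a b : G} (ha : a ∈ D) (hb : b ∈ perp D a) :
    ∃ g : G, (inn G g * φ) a = a ∧ (inn G g * φ) b = b := by
  have hb' : φ b ∈ perp D (φ a) := aut_perp S hb
  obtain ⟨g, hg⟩ := S.hprim.1 (φ a) (mem_image_of_aut S φ ha) a ha
  have hb'' : g * φ b * g⁻¹ ∈ perp D a := by
    have := (conj_mem_perp_iff S.hD g (φ a) (φ b)).mpr hb'
    rwa [hg] at this
  obtain ⟨h, hh, hhb⟩ := S.exists_conj_perp ha hb'' hb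
  refine ⟨h * g, ?_, ?_⟩
  · show h * g * φ a * (h * g)⁻¹ = a
    rw [show h * g * φ a * (h * g)⁻¹ = h * (g * φ a * g⁻¹) * h⁻¹ by group, hg, Sys.closure_fix hh]
  · show h * g * φ b * (h * g)⁻¹ = b
    rw [show h * g * φ b * (h * g)⁻¹ = h * (g * φ b * g⁻¹) * h⁻¹ by group, hhb]

end Cfsg.Agent.Lib.FischerAut6
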