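import Mathlib
import Cfsg.Agent.Lib.FischerAut6.Basic

/-!
Type M(22): for a commuting pair `a, b`, the only proper subgroup of the core above `⟨a, b⟩` invariant
under the centraliser of the pair is `⟨a, b⟩`.

Owner: helper6.
-/

set_option autoImplicit false
set_option linter.style.haveILetI false
set_option linter.unusedSectionVars false

namespace Cfsg.Agent.Lib.FischerAut6

open Cfsg.Agent.Lib.FischerMTypes Cfsg.Agent.Lib.FischerMTypes.Basic Cfsg.Agent.Lib.FischerMTypes.Primitive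
  Cfsg.Agent.Lib.FischerMTypes.Levels Cfsg.Agent.Lib.FischerMTypes.PointModel
  Cfsg.Agent.Lib.FischerMTypes.TraceCounts Cfsg.Agent.Lib.FischerMTypes.PairModelM22
open Cfsg.Agent.Lib.Unitary (herm_smul_left herm_smul_right herm_eq_zero_symm exists_SU_isotropic)
open Cfsg.Agent.Lib.UnitaryFour.Transvection Cfsg.Agent.Lib.UnitaryFour.Stabilizer
  Cfsg.Agent.Lib.UnitaryFour.Classes Cfsg.Agent.Lib.UnitaryFour.PointStab

variable {G : Type*} [Group G] [Finite G] {D : Set G}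
variable {F : Type} [Field F] [Fintype F]

local notation "h⟪" u ", " v "⟫" => Cfsg.hermForm 6 F 2 u v
local notation "h₄⟪" u ", " v "⟫" => Cfsg.hermForm 4 F 2 u v

/-- the group generated by the pair -/
abbrev pairGrp (a b : G) : Subgroup G := Subgroup.closure ({a, b} : Set G)

open Cfsg.Agent.Lib.FischerMTypes.PairModelM22.Model (cen cenProd mem_cen mem_cenProd perp₂_cen)

variable {a b : G} (M : Model D F a b)

include M in
theorem pair_mem {v : G} (hv : v ∈ pairGrp a b) : v = 1 ∨ v = a ∨ v = b ∨ v = a * b := by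
  have hi : ∀ s ∈ ({1, a, b, a * b} : Set G), ∀ r ∈ ({a, b} : Set G), r * s ∈ ({1, a, b, a * b} : Set G) := by
    have e1 : b * a = a * b := M.b_mem.2.2.eq.symm
    have e2 : a * (a * b) = b := by rw [← mul_assoc, mul_self M.S.hD.1 M.ha, one_mul]
    have e3 : b * (a * b) = a := by rw [← mul_assoc, e1, mul_assoc, mul_self M.S.hD.1 M.b_mem.1, mul_one]
    rintro s (rfl | rfl | rfl | rfl) r (rfl | rfl) <;>
      simp [mul_self M.S.hD.1 M.ha, mul_self M.S.hD.1 M.b_mem.1, e1, e2, e3]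
  show v ∈ ({1, a, b, a * b} : Set G)
  induction hv using Subgroup.closure_induction_left with
  | one => simp
  | mul_left r hr s _ ih => exact hi s ih r hr
  | inv_mul_cancel r hr s _ ih =>
    have hr' : r⁻¹ = r := by
      rcases hr with rfl | rfl
      exacts [inv_eq M.S.hD.1 M.ha, inv_eq M.S.hD.1 M.b_mem.1]
    rw [hr']
    exact hi s ih r hr

include M in
theorem pair_le_core : pairGrp a b ≤ M.core :=
  (Subgroup.closure_le _).mpr fun z hz => by
    rcases hz with rfl | rfl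
    exacts [M.a_mem_core, M.b_mem_core]

theorem gen_congr {x : Fin 4 → F} (hx : h₄⟪x, x⟫ = 0) (hx0 : x ≠ 0) (r r' : F) :
    (M.gen x r)⁻¹ * M.gen x r' ∈ pairGrp a b := by
  have h1 := M.gen_four hx hx0 r
  have h2 := M.gen_four hx hx0 r'
  set k : ↥(cen a b) := ⟨_, M.gen_mem_cen hx hx0 r⟩
  set l : ↥(cen a b) := ⟨_, M.gen_mem_cen hx hx0 r'⟩
  have hk : M.four k⁻¹ = 1 := by rw [map_inv, h1, inv_one]
  refine M.mem_pair_of_coord (k := k⁻¹ * l) (by rw [map_mul, hk, h2, mul_one]) ?_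
  rw [M.coord_mul hk h2, show M.coord l = M.coord k by rw [M.gen_coord hx hx0, M.gen_coord hx hx0],
    ← M.coord_mul hk h1, inv_mul_cancel]
  funext i
  rw [Model.coord, map_one, Subgroup.coe_one, act_one]
  exact herm_eq_zero_symm M.hF (M.hfr.orth i).2

theorem pt_mul_pt {x : Fin 4 → F} (hx : h₄⟪x, x⟫ = 0) (hx0 : x ≠ 0) {c c' : F} (hc : c ≠ c') :
    ∃ (x' : Fin 4 → F) (r : F), h₄⟪x', x'⟫ = 0 ∧ x' ≠ 0 ∧
      M.C.pt (lin M.g x + c • M.e) * M.C.pt (lin M.g x + c' • M.e) = M.gen x' r := by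
  have hd : c' - c ≠ 0 := sub_ne_zero.mpr (Ne.symm hc)
  set d := (c' - c)⁻¹ with hdd
  have hd0 : d ≠ 0 := inv_ne_zero hd
  refine ⟨d • x, d * c, by rw [herm_smul_left, herm_smul_right, hx, mul_zero, mul_zero],
    smul_ne_zero hd0 hx0, ?_⟩
  have e1 : lin M.g (d • x) + (d * c) • M.e = d • (lin M.g x + c • M.e) := by
    rw [lin_smul, smul_add, smul_smul]
  have e2 : lin M.g (d • x) + (d * c + 1) • M.e = d • (lin M.g x + c' • M.e) := by
    rw [lin_smul, smul_add, smul_smul, show d * c + 1 = d * c' by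
      rw [show (1 : F) = d * (c' - c) by rw [hdd, inv_mul_cancel₀ hd]]; ring]
  rw [Model.gen, e1, e2, M.C.pt_smul (M.iso_vec hx c) (M.vec_ne hx0 c) hd0,
    M.C.pt_smul (M.iso_vec hx c') (M.vec_ne hx0 c') hd0]

theorem exists_conj_gen {x x' : Fin 4 → F} (hx : h₄⟪x, x⟫ = 0) (hx0 : x ≠ 0) (hx' : h₄⟪x', x'⟫ = 0)
    (hx0' : x' ≠ 0) (r : F) : ∃ k ∈ cen a b, k * M.gen x r * k⁻¹ = M.gen x' r := by
  obtain ⟨A, hdet, hA⟩ := exists_SU_isotropic (n := 4) M.hF (by norm_num) (e := x) (e' := x') hx0 hx hx0' hx'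
  set A' : Cfsg.SU 4 F 2 := ⟨⟨A.1.1, hdet⟩, A.2⟩
  obtain ⟨⟨k, hk⟩, hks⟩ := M.pair_surjective ⟨emb M.hF M.hfr A', emb_mem M.hF M.hfr A'⟩
  have hlin : ∀ r : F, act (emb M.hF M.hfr A') (lin M.g x + r • M.e) = lin M.g x' + r • M.e := by
    intro r
    rw [act_add, act_smul, (emb_acts M.hF M.hfr A').1, (emb_acts M.hF M.hfr A').2.2,
      show A'.1.1.mulVec x = x' from hA]
  have hp : ∀ r : F, k * M.C.pt (lin M.g x + r • M.e) * k⁻¹ = M.C.pt (lin M.g x' + r • M.e) := by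
    intro r
    have := M.pair_conj ⟨k, hk⟩ (M.iso_vec hx r) (M.vec_ne hx0 r)
    rw [hks] at this
    rw [← hlin r]
    exact this
  refine ⟨k, hk, ?_⟩
  rw [Model.gen, Model.gen, ← hp, ← hp]
  group

/-- the core modulo the pair is irreducible under the centraliser of the pair -/
theorem irred {W : Subgroup G} (hVW : pairGrp a b ≤ W) (hWH : W ≤ M.core)
    (hinv : ∀ k ∈ cen a b, ∀ w ∈ W, k * w * k⁻¹ ∈ W) (hne : ∃ w ∈ W, w ∉ pairGrp a b) : W = M.core := by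
  classical
  obtain ⟨w, hw, hwV⟩ := hne
  obtain ⟨hwK, hw4⟩ := M.mem_core.mp (hWH hw)
  obtain ⟨y, hy, hmove⟩ : ∃ y ∈ perp₂ D a b, ¬ Commute w y := by
    by_contra hcon
    push Not at hcon
    exact hwV (M.mem_pair_of_central hwK hcon)
  have hyK := perp₂_cen hy
  -- a product along one line
  have hy' : w * y * w⁻¹ ∈ perp₂ D a b := by
    have h1 := (conj_mem_perp_iff M.S.hD w a y).mpr hy.1
    have h2 := (conj_mem_perp_iff M.S.hD w b y).mpr hy.2
    rw [(mem_cen.mp hwK).1.eq, mul_inv_cancel_right] at h1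
    rw [(mem_cen.mp hwK).2.eq, mul_inv_cancel_right] at h2
    exact ⟨h1, h2⟩
  have hz : (w * y * w⁻¹) * y ∈ W := by
    have h1 := hinv y hyK w⁻¹ (inv_mem hw)
    rw [show w * y * w⁻¹ * y = w * (y * w⁻¹ * y⁻¹) by rw [inv_eq M.S.hD.1 hy.1.1]; group]
    exact mul_mem hw h1
  obtain ⟨x, c, hx, hx0, hxy⟩ := M.exists_vec hy
  obtain ⟨x₂, c₂, hx₂, hx₂0, hxy₂⟩ := M.exists_vec hy'
  have hfour : tv M.hF x hx = tv M.hF x₂ hx₂ := by
    rw [← M.four_pt hx hx0 c, ← M.four_pt hx₂ hx₂0 c₂]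
    have e : (⟨M.C.pt (lin M.g x₂ + c₂ • M.e), perp₂_cen (M.pt_vec_mem hx₂ hx₂0 c₂)⟩ : ↥(cen a b)) =
        ⟨w, hwK⟩ * ⟨M.C.pt (lin M.g x + c • M.e), perp₂_cen (M.pt_vec_mem hx hx0 c)⟩ * ⟨w, hwK⟩⁻¹ := by
      refine Subtype.ext ?_
      show M.C.pt (lin M.g x₂ + c₂ • M.e) = w * M.C.pt (lin M.g x + c • M.e) * w⁻¹
      rw [hxy, hxy₂]
    rw [e, map_mul, map_mul, map_inv, hw4, one_mul, inv_one, mul_one]
  obtain ⟨k, hk, hkx⟩ := parallel_of_tv_eq M.hF hx₂0 hx hx₂ hfour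
  subst hkx
  have hvec : lin M.g (k • x) + c₂ • M.e = k • (lin M.g x + (c₂ / k) • M.e) := by
    rw [lin_smul, smul_add, smul_smul, mul_div_cancel₀ _ hk]
  rw [hvec, M.C.pt_smul (M.iso_vec hx _) (M.vec_ne hx0 _) hk] at hxy₂
  have hcne : c₂ / k ≠ c := by
    intro h
    rw [h, hxy] at hxy₂
    refine hmove ?_
    show w * y = y * w
    conv_rhs => rw [hxy₂]
    group
  obtain ⟨x₁, r₁, hx₁, hx₁0, he⟩ := pt_mul_pt M hx hx0 hcne
  rw [hxy, hxy₂] at he
  rw [he] at hz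
  -- all of them
  have hgens : M.gens ≤ W := by
    refine (Subgroup.closure_le _).mpr ?_
    rintro _ ⟨x', r', hx', hx0', rfl⟩
    obtain ⟨g, hg, hge⟩ := exists_conj_gen M hx₁ hx₁0 hx' hx0' r₁
    have h1 := hinv g hg _ hz
    rw [hge] at h1
    have h2 := mul_mem h1 (hVW (gen_congr M hx' hx0' r₁ r'))
    rwa [mul_inv_cancel_left] at h2
  refine le_antisymm hWH fun z hz => ?_
  obtain ⟨u, hu, v, hv, rfl⟩ := M.core_eq hz
  exact mul_mem (hgens hu) (hVW hv)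

end Cfsg.Agent.Lib.FischerAut6
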