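import Mathlib
import Cfsg.Agent.Lib.FischerAut6.Irred

/-!
Type M(22): the automorphisms fixing the product `a * b` of a commuting pair, and the normal subgroup
of those acting trivially on the centraliser of the pair modulo the core.

Owner: helper6.
-/

set_option autoImplicit false
set_option linter.style.haveILetI false
set_option linter.unusedSectionVars false

namespace Cfsg.Agent.Lib.FischerAut6

open Cfsg.Agent.Lib.FischerMTypes Cfsg.Agent.Lib.FischerMTypes.Basic Cfsg.Agent.Lib.FischerMTypes.Primitive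
  Cfsg.Agent.Lib.FischerMTypes.Levels Cfsg.Agent.Lib.FischerMTypes.TraceCounts
  Cfsg.Agent.Lib.FischerMTypes.PairModelM22
open Cfsg.Agent.Lib.FischerMTypes.PairModelM22.Model (cen cenProd mem_cen mem_cenProd perp₂_cen cen_le_cenProd)
open scoped commutatorElement

variable {G : Type*} [Group G] [Finite G] {D : Set G}
variable {F : Type} [Field F] [Fintype F]

/-- the centraliser of the inner automorphism of `a * b` -/
abbrev autStab (a b : G) : Subgroup (MulAut G) :=
  Subgroup.centralizer ({inn G (a * b)} : Set (MulAut G))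

variable {a b : G} (M : Model D F a b)

include M in
theorem inn_inj : Function.Injective (inn G) := inn_injective M.S.hZ

include M in
theorem mem_autStab {φ : MulAut G} : φ ∈ autStab a b ↔ φ (a * b) = a * b := by
  rw [Subgroup.mem_centralizer_singleton_iff]
  constructor
  · intro h
    refine inn_inj M ?_
    rw [← mul_inn_mul_inv, h, mul_inv_cancel_right]
  · intro h
    have := mul_inn_mul_inv φ (a * b)
    rw [h] at this
    exact mul_inv_eq_iff_eq_mul.mp this

include M in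
theorem autStab_cases {φ : MulAut G} (hφ : φ (a * b) = a * b) :
    (φ a = a ∧ φ b = b) ∨ (φ a = b ∧ φ b = a) :=
  FischerMTypes.PairModelM22.pair_unique M.S M.ha M.b_mem (mem_image_of_aut M.S φ M.ha)
    (mem_image_of_aut M.S φ M.b_mem.1) ((commute_aut_iff φ a b).mpr M.b_mem.2.2) (by rw [← map_mul, hφ])

include M in
theorem map_cen {φ : MulAut G} (hφ : φ (a * b) = a * b) {k : G} (hk : k ∈ cen a b) : φ k ∈ cen a b := by
  obtain ⟨h1, h2⟩ := mem_cen.mp hk
  rcases autStab_cases M hφ with ⟨ea, eb⟩ | ⟨ea, eb⟩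
  · exact mem_cen.mpr ⟨ea ▸ (commute_aut_iff φ k a).mpr h1, eb ▸ (commute_aut_iff φ k b).mpr h2⟩
  · exact mem_cen.mpr ⟨eb ▸ (commute_aut_iff φ k b).mpr h2, ea ▸ (commute_aut_iff φ k a).mpr h1⟩

include M in
theorem aut_symm_fix {φ : MulAut G} (hφ : φ (a * b) = a * b) : φ⁻¹ (a * b) = a * b := by
  conv_lhs => rw [← hφ]
  exact φ.symm_apply_apply _

theorem map_core {φ : MulAut G} (hφ : φ (a * b) = a * b) {x : G} (hx : x ∈ M.core) : φ x ∈ M.core := by
  classical
  haveI := simple_SU_four M.hF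
  set N : Subgroup ↥(cen a b) := (M.core.map φ.toMonoidHom).comap (cen a b).subtype
  have hN : N.Normal := ⟨fun n hn k => by
    obtain ⟨z, hz, he⟩ := Subgroup.mem_map.mp (Subgroup.mem_comap.mp hn)
    refine Subgroup.mem_comap.mpr (Subgroup.mem_map.mpr
      ⟨φ⁻¹ (k : G) * z * (φ⁻¹ (k : G))⁻¹, M.core_normal (map_cen M (aut_symm_fix M hφ) k.2) hz, ?_⟩)
    have he' : φ z = (n : G) := he
    show φ _ = (k : G) * n * (k : G)⁻¹
    rw [map_mul, map_mul, map_inv, show φ (φ⁻¹ (k : G)) = k from φ.apply_symm_apply _, he']⟩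
  have hle : M.core.map φ.toMonoidHom ≤ cen a b := by
    rintro _ ⟨z, hz, rfl⟩
    exact map_cen M hφ (M.core_le hz)
  have hcard : Nat.card ↥N = 2 ^ 10 := by
    show Nat.card ↥((M.core.map φ.toMonoidHom).subgroupOf (cen a b)) = _
    rw [Nat.card_congr (Subgroup.subgroupOfEquivOfLe hle).toEquiv,
      Subgroup.card_map_of_injective φ.injective, M.card_core]
  have hmem : (⟨φ x, map_cen M hφ (M.core_le hx)⟩ : ↥(cen a b)) ∈ N :=
    Subgroup.mem_comap.mpr (Subgroup.mem_map.mpr ⟨x, hx, rfl⟩)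
  rcases (hN.map M.four M.four_surjective).eq_bot_or_eq_top with h | h
  · refine M.mem_core.mpr ⟨map_cen M hφ (M.core_le hx), ?_⟩
    have h' := Subgroup.mem_map_of_mem M.four hmem
    rwa [h, Subgroup.mem_bot] at h'
  · exfalso
    have hd := Subgroup.card_dvd_of_surjective (M.four.subgroupMap N) (M.four.subgroupMap_surjective N)
    rw [h, Subgroup.card_top, hcard, card_SU_four M.hF] at hd
    norm_num at hd

/-- the automorphisms fixing `a * b` and centralising the pair centraliser modulo the core -/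
def kerQ : Subgroup (MulAut G) where
  carrier := {φ | φ (a * b) = a * b ∧ ∀ k ∈ cen a b, φ k * k⁻¹ ∈ M.core}
  one_mem' := ⟨rfl, fun k _ => by rw [MulAut.one_apply, mul_inv_cancel]; exact one_mem _⟩
  mul_mem' := by
    rintro φ ψ ⟨h1, h2⟩ ⟨g1, g2⟩
    refine ⟨by rw [MulAut.mul_apply, g1, h1], fun k hk => ?_⟩
    have e : (φ * ψ) k * k⁻¹ = φ (ψ k * k⁻¹) * (φ k * k⁻¹) := by
      rw [MulAut.mul_apply, map_mul, map_inv]; group
    rw [e]
    exact mul_mem (map_core M h1 (g2 k hk)) (h2 k hk)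
  inv_mem' := by
    rintro φ ⟨h1, h2⟩
    refine ⟨aut_symm_fix M h1, fun k hk => ?_⟩
    have h := map_core M (aut_symm_fix M h1) (h2 k hk)
    rw [map_mul, map_inv, show φ⁻¹ (φ k) = k from φ.symm_apply_apply k] at h
    have h' := inv_mem h
    rwa [mul_inv_rev, inv_inv] at h'

theorem mem_kerQ {φ : MulAut G} :
    φ ∈ kerQ M ↔ φ (a * b) = a * b ∧ ∀ k ∈ cen a b, φ k * k⁻¹ ∈ M.core := Iff.rfl

theorem kerQ_le_autStab : kerQ M ≤ autStab a b := fun _ h => (mem_autStab M).mpr h.1

theorem inn_mem_kerQ_iff {g : G} : inn G g ∈ kerQ M ↔ g ∈ M.core := by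
  constructor
  · rintro ⟨hfix, hc⟩
    have hg : g ∈ cenProd a b := mem_cenProd.mpr (mul_inv_eq_iff_eq_mul.mp hfix)
    rcases M.conj_cases hg with ⟨h1, h2⟩ | ⟨h1, h2⟩
    · have hgK : g ∈ cen a b := mem_cen.mpr ⟨mul_inv_eq_iff_eq_mul.mp h1, mul_inv_eq_iff_eq_mul.mp h2⟩
      refine M.mem_core.mpr ⟨hgK, ?_⟩
      have hz : M.four ⟨g, hgK⟩ ∈ Subgroup.center (Cfsg.SU 4 F 2) := by
        rw [Subgroup.mem_center_iff]
        intro w
        obtain ⟨k, rfl⟩ := M.four_surjective w
        obtain ⟨h, h'⟩ := M.mem_core.mp (hc k k.2)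
        rw [show (⟨inn G g k * (k : G)⁻¹, h⟩ : ↥(cen a b)) = ⟨g, hgK⟩ * k * ⟨g, hgK⟩⁻¹ * k⁻¹ from rfl,
          map_mul, map_mul, map_mul, map_inv, map_inv, mul_inv_eq_one, mul_inv_eq_iff_eq_mul] at h'
        exact h'.symm
      rwa [center_SU_four M.hF, Subgroup.mem_bot] at hz
    · exact (M.no_inner_swap h1 h2 hc).elim
  · intro hg
    obtain ⟨hgK, hg4⟩ := M.mem_core.mp hg
    refine ⟨?_, fun k hk => ?_⟩
    · exact mul_inv_eq_iff_eq_mul.mpr (mem_cenProd.mp (cen_le_cenProd hgK)).eq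
    · show g * k * g⁻¹ * k⁻¹ ∈ M.core
      rw [show g * k * g⁻¹ * k⁻¹ = g * (k * g⁻¹ * k⁻¹) by group]
      exact mul_mem hg (M.core_normal hk (inv_mem hg))

/-- the endomorphism of `SU(4,2)` induced by a stabilising automorphism -/
noncomputable def actHom (φ : ↥(autStab a b)) : Cfsg.SU 4 F 2 →* Cfsg.SU 4 F 2 :=
  M.four.liftOfSurjective M.four_surjective
    ⟨MonoidHom.mk' (fun k : ↥(cen a b) => M.four ⟨(φ : MulAut G) k, map_cen M ((mem_autStab M).mp φ.2) k.2⟩)
      (fun k l => by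
        rw [← map_mul]
        exact congrArg _ (Subtype.ext (by simp [map_mul]))),
    fun k hk => by
      obtain ⟨h, h'⟩ := M.mem_core.mp (map_core M ((mem_autStab M).mp φ.2) (M.mem_core.mpr ⟨k.2, hk⟩))
      exact h'⟩

theorem actHom_four (φ : ↥(autStab a b)) (k : ↥(cen a b)) :
    actHom M φ (M.four k) = M.four ⟨(φ : MulAut G) k, map_cen M ((mem_autStab M).mp φ.2) k.2⟩ := by
  rw [actHom]
  exact MonoidHom.liftOfRightInverse_comp_apply _ _ _ _ k

theorem actHom_mul (φ ψ : ↥(autStab a b)) (s : Cfsg.SU 4 F 2) :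
    actHom M (φ * ψ) s = actHom M φ (actHom M ψ s) := by
  obtain ⟨k, rfl⟩ := M.four_surjective s
  rw [actHom_four, actHom_four, actHom_four]
  rfl

theorem actHom_one (s : Cfsg.SU 4 F 2) : actHom M 1 s = s := by
  obtain ⟨k, rfl⟩ := M.four_surjective s
  rw [actHom_four]
  rfl

/-- the action on `SU(4,2)` -/
noncomputable def actAut : ↥(autStab a b) →* MulAut (Cfsg.SU 4 F 2) :=
  MonoidHom.mk' (fun φ =>
    { toFun := actHom M φ
      invFun := actHom M φ⁻¹
      left_inv := fun s => by rw [← actHom_mul, inv_mul_cancel, actHom_one]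
      right_inv := fun s => by rw [← actHom_mul, mul_inv_cancel, actHom_one]
      map_mul' := map_mul _ })
    (fun φ ψ => MulEquiv.ext (actHom_mul M φ ψ))

theorem ker_actAut : (actAut M).ker = (kerQ M).subgroupOf (autStab a b) := by
  ext φ
  have hφ := (mem_autStab M).mp φ.2
  rw [MonoidHom.mem_ker, Subgroup.mem_subgroupOf, mem_kerQ]
  constructor
  · intro h
    refine ⟨hφ, fun k hk => ?_⟩
    have h1 := MulEquiv.ext_iff.mp h (M.four ⟨k, hk⟩)
    change actHom M φ (M.four ⟨k, hk⟩) = _ at h1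
    rw [actHom_four, MulAut.one_apply, ← mul_inv_eq_one, ← map_inv, ← map_mul] at h1
    exact M.mem_core.mpr ⟨_, h1⟩
  · rintro ⟨-, h⟩
    refine MulEquiv.ext fun s => ?_
    obtain ⟨k, rfl⟩ := M.four_surjective s
    change actHom M φ (M.four k) = _
    obtain ⟨hm, h1⟩ := M.mem_core.mp (h k k.2)
    rw [actHom_four, MulAut.one_apply, ← mul_inv_eq_one, ← map_inv, ← map_mul]
    exact h1

theorem kerQ_normal : ((kerQ M).subgroupOf (autStab a b)).Normal := by
  rw [← ker_actAut]
  infer_instance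

variable (hidx : (inn G).range.index = 2)

include M in
theorem cenProd_map_eq : (cenProd a b).map (inn G) = (inn G).range ⊓ autStab a b := by
  ext φ
  constructor
  · rintro ⟨g, hg, rfl⟩
    refine ⟨⟨g, rfl⟩, (mem_autStab M).mpr ?_⟩
    exact mul_inv_eq_iff_eq_mul.mpr (mem_cenProd.mp hg).eq
  · rintro ⟨⟨g, rfl⟩, hφ⟩
    exact ⟨g, mem_cenProd.mpr (mul_inv_eq_iff_eq_mul.mp ((mem_autStab M).mp hφ)), rfl⟩

include M hidx in
theorem card_autStab : Nat.card ↥(autStab a b) = 2 * Nat.card ↥(cenProd a b) := by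
  classical
  set I := (inn G).range
  set C := autStab a b
  have h2 : I.relIndex C ∣ 2 := hidx ▸ Subgroup.relIndex_dvd_index_of_normal I C
  have h1 : I.relIndex C ≠ 1 := by
    intro h
    have hle := Subgroup.relIndex_eq_one.mp h
    obtain ⟨φ, hφ⟩ : ∃ φ, φ ∉ I := by
      by_contra hcon
      push Not at hcon
      rw [show I = ⊤ from eq_top_iff.mpr fun x _ => hcon x, Subgroup.index_top] at hidx
      omega
    obtain ⟨g, hga, hgb⟩ := exists_fix_pair M.S φ M.ha M.b_mem
    refine hφ ?_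
    have hin : inn G g * φ ∈ I := hle ((mem_autStab M).mpr (by rw [map_mul, hga, hgb]))
    simpa using mul_mem (inv_mem (⟨g, rfl⟩ : inn G g ∈ I)) hin
  have hr : I.relIndex C = 2 := by
    rcases (Nat.dvd_prime Nat.prime_two).mp h2 with h | h
    · exact absurd h h1
    · exact h
  have e := Subgroup.card_eq_card_quotient_mul_card_subgroup (I.subgroupOf C)
  change Nat.card ↥C = I.relIndex C * _ at e
  rw [e, hr]
  congr 1
  rw [← Subgroup.inf_subgroupOf_right, Nat.card_congr (Subgroup.subgroupOfEquivOfLe inf_le_right).toEquiv,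
    ← cenProd_map_eq M, Subgroup.card_map_of_injective (inn_inj M)]

theorem kerQ_inf_range : (inn G).range ⊓ kerQ M = M.core.map (inn G) := by
  ext φ
  constructor
  · rintro ⟨⟨g, rfl⟩, h⟩
    exact ⟨g, (inn_mem_kerQ_iff M).mp h, rfl⟩
  · rintro ⟨g, hg, rfl⟩
    exact ⟨⟨g, rfl⟩, (inn_mem_kerQ_iff M).mpr hg⟩

include hidx in
theorem card_kerQ_and_surj : Nat.card ↥(kerQ M) = 2 ^ 11 ∧ Function.Surjective (actAut M) := by
  classical
  set I := (inn G).range
  set C := autStab a b
  have hC : Nat.card ↥C = 2 ^ 11 * 51840 := by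
    rw [card_autStab M hidx, M.card_cenProd]; norm_num
  have hker : Nat.card ↥(actAut M).ker = Nat.card ↥(kerQ M) := by
    rw [ker_actAut]
    exact Nat.card_congr (Subgroup.subgroupOfEquivOfLe (kerQ_le_autStab M)).toEquiv
  have e := Subgroup.card_eq_card_quotient_mul_card_subgroup (actAut M).ker
  rw [hker, Nat.card_congr (QuotientGroup.quotientKerEquivRange (actAut M)).toEquiv, hC] at e
  have hrd : Nat.card ↥(actAut M).range ∣ 51840 :=
    card_aut_SU_four (F := F) M.hF ▸ Subgroup.card_subgroup_dvd_card _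
  have hQ2 : I.relIndex (kerQ M) ∣ 2 := hidx ▸ Subgroup.relIndex_dvd_index_of_normal I _
  have eQ := Subgroup.card_eq_card_quotient_mul_card_subgroup (I.subgroupOf (kerQ M))
  change Nat.card ↥(kerQ M) = I.relIndex (kerQ M) * _ at eQ
  rw [← Subgroup.inf_subgroupOf_right, Nat.card_congr (Subgroup.subgroupOfEquivOfLe inf_le_right).toEquiv,
    kerQ_inf_range, Subgroup.card_map_of_injective (inn_inj M), M.card_core] at eQ
  have hupper : Nat.card ↥(kerQ M) ≤ 2 ^ 11 := by
    rw [eQ]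
    have := Nat.le_of_dvd two_pos hQ2
    calc I.relIndex (kerQ M) * 2 ^ 10 ≤ 2 * 2 ^ 10 := Nat.mul_le_mul_right _ this
      _ = 2 ^ 11 := by norm_num
  have hrle := Nat.le_of_dvd (by norm_num) hrd
  have hr : Nat.card ↥(actAut M).range = 51840 := by
    by_contra hne
    have hlt : Nat.card ↥(actAut M).range < 51840 := lt_of_le_of_ne hrle hne
    nlinarith
  rw [hr] at e
  refine ⟨by omega, MonoidHom.range_eq_top.mp (Subgroup.eq_top_of_card_eq _ ?_)⟩
  rw [hr, card_aut_SU_four (F := F) M.hF]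

end Cfsg.Agent.Lib.FischerAut6
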