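import Mathlib
import Cfsg.Agent.Lib.FischerAut6.Stab
import Cfsg.Agent.Lib.FischerMTypes.Connected

/-!
Type M(22) with an outer automorphism: the kernel of the action of the stabiliser of `a * b` on the
quotient is extraspecial of order `2^11` and contains its centraliser.

Owner: helper6.
-/

set_option autoImplicit false
set_option linter.style.haveILetI false
set_option linter.unusedSectionVars false

namespace Cfsg.Agent.Lib.FischerAut6

open Cfsg.Agent.Lib.FischerMTypes Cfsg.Agent.Lib.FischerMTypes.Basic Cfsg.Agent.Lib.FischerMTypes.Primitive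
  Cfsg.Agent.Lib.FischerMTypes.Levels Cfsg.Agent.Lib.FischerMTypes.PointModel
  Cfsg.Agent.Lib.FischerMTypes.TraceCounts Cfsg.Agent.Lib.FischerMTypes.PairModelM22
open Cfsg.Agent.Lib.FischerMTypes.PairModelM22.Model (cen cenProd mem_cen mem_cenProd perp₂_cen cen_le_cenProd)
open scoped commutatorElement

variable {G : Type*} [Group G] [Finite G] {D : Set G}
variable {F : Type} [Field F] [Fintype F]
variable {a b : G} (M : Model D F a b)

/-- the group of order two generated by the product -/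
abbrev jGrp (a b : G) : Subgroup G := Subgroup.zpowers (a * b)

include M in
theorem prod_sq : a * b * (a * b) = 1 := by
  rw [M.b_mem.2.2.symm.mul_mul_mul_comm, mul_self M.S.hD.1 M.ha, mul_self M.S.hD.1 M.b_mem.1, one_mul]

include M in
theorem prod_ne_one : a * b ≠ 1 := fun h =>
  M.b_mem.2.1 ((eq_inv_of_mul_eq_one_right h).trans (inv_eq M.S.hD.1 M.ha))

include M in
theorem mem_jGrp {v : G} : v ∈ jGrp a b ↔ v = 1 ∨ v = a * b := by
  constructor
  · rintro ⟨n, rfl⟩
    have h2 : (a * b) ^ (2 : ℤ) = 1 := by rw [zpow_two]; exact prod_sq M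
    rcases Int.even_or_odd' n with ⟨m, rfl | rfl⟩
    · exact Or.inl (show (a * b) ^ (2 * m) = 1 by rw [zpow_mul, h2, one_zpow])
    · exact Or.inr (show (a * b) ^ (2 * m + 1) = a * b by
        rw [zpow_add, zpow_mul, h2, one_zpow, one_mul, zpow_one])
  · rintro (rfl | rfl)
    exacts [one_mem _, Subgroup.mem_zpowers _]

include M in
theorem jGrp_le_pair : jGrp a b ≤ pairGrp a b := by
  rw [Subgroup.zpowers_le]
  exact mul_mem (Subgroup.subset_closure (by simp)) (Subgroup.subset_closure (by simp))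

include M in
theorem card_jGrp : Nat.card ↥(jGrp a b) = 2 := by
  rw [Nat.card_zpowers, orderOf_eq_iff two_pos]
  refine ⟨by rw [sq]; exact prod_sq M, fun m hm hm' h => ?_⟩
  obtain rfl : m = 1 := by omega
  rw [pow_one] at h
  exact prod_ne_one M h

include M in
theorem comm_mem_jGrp {u v : G} (hu : u ∈ M.core) (hv : v ∈ M.core) : u * v * u⁻¹ * v⁻¹ ∈ jGrp a b := by
  rw [mem_jGrp M, ← commutatorElement_def]
  exact M.comm_or hu hv

include M in
theorem core_pair_commute {v x : G} (hv : v ∈ pairGrp a b) (hx : x ∈ M.core) : Commute x v :=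
  M.commute_pair hv (M.core_le hx)

include M in
theorem not_mem_pair : ∃ u ∈ M.core, ∃ v ∈ M.core,
    u ∉ pairGrp a b ∧ v ∉ pairGrp a b ∧ u * v ∉ pairGrp a b := by
  obtain ⟨x, y, hx, hy, hne, -⟩ := M.exists_comm
  have key : ∀ {p q : G}, p ∈ M.core → q ∈ pairGrp a b → ⁅p, q⁆ = 1 := fun hp hq =>
    commutatorElement_eq_one_iff_commute.mpr (core_pair_commute M hq hp)
  refine ⟨x, hx, y, hy, fun h => hne ?_, fun h => hne (key hx h), fun h => hne ?_⟩
  · rw [commutatorElement_eq_one_iff_commute]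
    exact (core_pair_commute M h hy).symm
  · rw [commutatorElement_eq_one_iff_commute]
    have h1 : Commute x (x * y) := core_pair_commute M h hx
    have h2 : x * (x * y) = x * (y * x) := by rw [← mul_assoc x y x]; exact h1.eq
    exact mul_left_cancel h2

variable {φ : MulAut G}

theorem kerQ_fix_pair (hφ : φ ∈ kerQ M) {v : G} (hv : v ∈ pairGrp a b) : φ v ∈ pairGrp a b := by
  have hle : (pairGrp a b).map φ.toMonoidHom ≤ pairGrp a b := by
    rw [MonoidHom.map_closure, Subgroup.closure_le]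
    rintro _ ⟨y, hy, rfl⟩
    refine Subgroup.subset_closure ?_
    rcases autStab_cases M hφ.1 with ⟨ea, eb⟩ | ⟨ea, eb⟩ <;> rcases hy with rfl | rfl <;>
      simp [ea, eb]
  exact hle ⟨v, hv, rfl⟩

variable (hidx : (inn G).range.index = 2)

include hidx in
/-- kernel elements are trivial on the core modulo the pair -/
theorem trivial_mod_pair (hφ : φ ∈ kerQ M) : ∀ x ∈ M.core, φ x * x⁻¹ ∈ pairGrp a b := by
  classical
  set V := pairGrp a b
  have hcomm : ∀ {c y : G}, c ∈ M.core → y ∈ M.core → c * y * c⁻¹ * y⁻¹ ∈ V := fun hc hy =>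
    jGrp_le_pair M (comm_mem_jGrp M hc hy)
  have hcen : ∀ {v x : G}, v ∈ V → x ∈ M.core → v * x = x * v := fun hv hx =>
    (core_pair_commute M hv hx).eq.symm
  let W : Subgroup G :=
    { carrier := {x | x ∈ M.core ∧ φ x * x⁻¹ ∈ V}
      one_mem' := ⟨one_mem _, by rw [map_one, one_mul, inv_one]; exact one_mem _⟩
      mul_mem' := by
        rintro x y ⟨hx, hx'⟩ ⟨hy, hy'⟩
        refine ⟨mul_mem hx hy, ?_⟩
        have e : φ (x * y) * (x * y)⁻¹ = φ x * x⁻¹ * (φ y * y⁻¹) := by
          have h1 := hcen hy' hx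
          calc φ (x * y) * (x * y)⁻¹ = φ x * x⁻¹ * (x * (φ y * y⁻¹)) * x⁻¹ := by rw [map_mul]; group
            _ = φ x * x⁻¹ * (φ y * y⁻¹) := by rw [← h1]; group
        rw [e]
        exact mul_mem hx' hy'
      inv_mem' := by
        rintro x ⟨hx, hx'⟩
        refine ⟨inv_mem hx, ?_⟩
        have h1 := hcen (inv_mem hx') (inv_mem hx)
        have e : φ x⁻¹ * x⁻¹⁻¹ = (φ x * x⁻¹)⁻¹ := by
          calc φ x⁻¹ * x⁻¹⁻¹ = x⁻¹ * (φ x * x⁻¹)⁻¹ * x := by rw [map_inv]; group
            _ = (φ x * x⁻¹)⁻¹ := by rw [← h1]; group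
        rw [e]
        exact inv_mem hx' }
  suffices h : W = M.core by
    intro x hx
    exact (h.symm.le hx).2
  refine irred M (fun v hv => ⟨pair_le_core M hv, mul_mem (kerQ_fix_pair M hφ hv) (inv_mem hv)⟩)
    (fun x hx => hx.1) ?_ ?_
  · rintro k hk w ⟨hw, hw'⟩
    refine ⟨M.core_normal hk hw, ?_⟩
    set c := φ k * k⁻¹ with hc
    set δ := φ w * w⁻¹ with hδ
    have hcH : c ∈ M.core := hφ.2 k hk
    have hk1 : Commute k δ := M.commute_pair hw' hk
    have hc1 : Commute c δ := core_pair_commute M hw' hcH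
    have e : φ (k * w * k⁻¹) * (k * w * k⁻¹)⁻¹ =
        δ * (c * (k * w * k⁻¹) * c⁻¹ * (k * w * k⁻¹)⁻¹) := by
      have h1 : φ k = c * k := by rw [hc]; group
      have h2 : φ w = δ * w := by rw [hδ]; group
      rw [map_mul, map_mul, map_inv, h1, h2]
      calc c * k * (δ * w) * (c * k)⁻¹ * (k * w * k⁻¹)⁻¹
          = c * (k * δ) * w * (c * k)⁻¹ * (k * w * k⁻¹)⁻¹ := by group
        _ = (c * δ) * k * w * (c * k)⁻¹ * (k * w * k⁻¹)⁻¹ := by rw [hk1.eq]; group
        _ = δ * (c * (k * w * k⁻¹) * c⁻¹ * (k * w * k⁻¹)⁻¹) := by rw [hc1.eq]; group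
    rw [e]
    exact mul_mem hw' (hcomm hcH (M.core_normal hk hw))
  · obtain ⟨x, hx, -, -, hxV, -, -⟩ := not_mem_pair M
    by_cases hxW : φ x * x⁻¹ ∈ V
    · exact ⟨x, ⟨hx, hxW⟩, hxV⟩
    -- the square is trivial on the core modulo the pair
    obtain ⟨g, hg⟩ : φ ^ 2 ∈ (inn G).range := hidx ▸ Subgroup.pow_index_mem _ φ
    have hgc : g ∈ M.core := (inn_mem_kerQ_iff M).mp (hg ▸ pow_mem hφ 2)
    have h2 : φ (φ x) * x⁻¹ ∈ V := by
      have : φ (φ x) = g * x * g⁻¹ := by
        rw [← MulAut.mul_apply, ← sq, ← hg]; rfl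
      rw [this]
      exact hcomm hgc hx
    have hφx := map_core M hφ.1 hx
    refine ⟨x * φ x, ⟨mul_mem hx hφx, ?_⟩, fun h => hxW ?_⟩
    · have e : φ (x * φ x) * (x * φ x)⁻¹ =
          φ x * (φ (φ x) * x⁻¹) * (φ x)⁻¹ * (φ x * x * (φ x)⁻¹ * x⁻¹) := by
        rw [map_mul]; group
      rw [e]
      refine mul_mem ?_ (hcomm hφx hx)
      rw [← hcen h2 hφx, mul_inv_cancel_right]
      exact h2
    · have hxx : x * x ∈ V := by rw [← sq]; exact (M.sq_comm_core hx hx).2
      have e : φ x * x⁻¹ = x⁻¹ * (x * φ x) * (x * x)⁻¹ * x := by group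
      rw [e]
      have h1 := mul_mem h (inv_mem hxx)
      have h3 := hcen h1 (inv_mem hx)
      have e2 : x⁻¹ * (x * φ x) * (x * x)⁻¹ * x = x * φ x * (x * x)⁻¹ := by
        calc x⁻¹ * (x * φ x) * (x * x)⁻¹ * x = (x⁻¹ * (x * φ x * (x * x)⁻¹)) * x := by group
          _ = x * φ x * (x * x)⁻¹ := by rw [← h3]; group
      rw [e2]
      exact h1

include hidx in
/-- kernel elements are trivial on the core modulo the product -/
theorem trivial_mod_prod (hφ : φ ∈ kerQ M) : ∀ x ∈ M.core, φ x * x⁻¹ ∈ jGrp a b := by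
  classical
  set V := pairGrp a b
  have h1 := trivial_mod_pair M hidx hφ
  have hcen : ∀ {v x : G}, v ∈ V → x ∈ M.core → v * x = x * v := fun hv hx =>
    (core_pair_commute M hv hx).eq.symm
  have hmul : ∀ {x y : G}, x ∈ M.core → y ∈ M.core →
      φ (x * y) * (x * y)⁻¹ = φ x * x⁻¹ * (φ y * y⁻¹) := by
    intro x y hx hy
    have h2 := hcen (h1 y hy) hx
    calc φ (x * y) * (x * y)⁻¹ = φ x * x⁻¹ * (x * (φ y * y⁻¹)) * x⁻¹ := by rw [map_mul]; group
      _ = φ x * x⁻¹ * (φ y * y⁻¹) := by rw [← h2]; group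
  let W : Subgroup G :=
    { carrier := {x | x ∈ M.core ∧ φ x * x⁻¹ ∈ jGrp a b}
      one_mem' := ⟨one_mem _, by rw [map_one, one_mul, inv_one]; exact one_mem _⟩
      mul_mem' := by
        rintro x y ⟨hx, hx'⟩ ⟨hy, hy'⟩
        refine ⟨mul_mem hx hy, ?_⟩
        rw [hmul hx hy]
        exact mul_mem hx' hy'
      inv_mem' := by
        rintro x ⟨hx, hx'⟩
        refine ⟨inv_mem hx, ?_⟩
        have e := hmul (inv_mem hx) hx
        rw [inv_mul_cancel, map_one, one_mul, inv_one] at e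
        rw [eq_inv_of_mul_eq_one_left e.symm]
        exact inv_mem hx' }
  suffices h : W = M.core by
    intro x hx
    exact (h.symm.le hx).2
  refine irred M (fun v hv => ⟨pair_le_core M hv, ?_⟩) (fun x hx => hx.1) ?_ ?_
  · -- on the pair
    have hab := M.b_mem.2.2.eq
    rw [mem_jGrp M]
    rcases autStab_cases M hφ.1 with ⟨ea, eb⟩ | ⟨ea, eb⟩ <;>
      rcases pair_mem M hv with rfl | rfl | rfl | rfl <;>
      simp only [map_one, map_mul, ea, eb, inv_one, one_mul, mul_inv_cancel, true_or]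
    · exact Or.inr (by rw [inv_eq M.S.hD.1 M.ha, hab])
    · exact Or.inr (by rw [inv_eq M.S.hD.1 M.b_mem.1])
    · exact Or.inl (by rw [← hab, mul_inv_cancel])
  · rintro k hk w ⟨hw, hw'⟩
    refine ⟨M.core_normal hk hw, ?_⟩
    set c := φ k * k⁻¹ with hc
    set δ := φ w * w⁻¹ with hδ
    have hcH : c ∈ M.core := hφ.2 k hk
    have hδV : δ ∈ V := jGrp_le_pair M hw'
    have hk1 : Commute k δ := M.commute_pair hδV hk
    have hc1 : Commute c δ := core_pair_commute M hδV hcH
    have e : φ (k * w * k⁻¹) * (k * w * k⁻¹)⁻¹ =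
        δ * (c * (k * w * k⁻¹) * c⁻¹ * (k * w * k⁻¹)⁻¹) := by
      have h1 : φ k = c * k := by rw [hc]; group
      have h2 : φ w = δ * w := by rw [hδ]; group
      rw [map_mul, map_mul, map_inv, h1, h2]
      calc c * k * (δ * w) * (c * k)⁻¹ * (k * w * k⁻¹)⁻¹
          = c * (k * δ) * w * (c * k)⁻¹ * (k * w * k⁻¹)⁻¹ := by group
        _ = (c * δ) * k * w * (c * k)⁻¹ * (k * w * k⁻¹)⁻¹ := by rw [hk1.eq]; group
        _ = δ * (c * (k * w * k⁻¹) * c⁻¹ * (k * w * k⁻¹)⁻¹) := by rw [hc1.eq]; group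
    rw [e]
    exact mul_mem hw' (comm_mem_jGrp M hcH (M.core_normal hk hw))
  · -- two non-trivial values multiply into the subgroup
    obtain ⟨u, hu, v, hv, huV, hvV, huvV⟩ := not_mem_pair M
    by_cases hu' : φ u * u⁻¹ ∈ jGrp a b
    · exact ⟨u, ⟨hu, hu'⟩, huV⟩
    by_cases hv' : φ v * v⁻¹ ∈ jGrp a b
    · exact ⟨v, ⟨hv, hv'⟩, hvV⟩
    refine ⟨u * v, ⟨mul_mem hu hv, ?_⟩, huvV⟩
    rw [hmul hu hv, mem_jGrp M]
    rw [mem_jGrp M, not_or] at hu' hv'
    rcases (pair_mem M (h1 u hu)) with e | e | e | e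
    · exact absurd e hu'.1
    rotate_right
    · exact absurd e hu'.2
    all_goals
      rcases (pair_mem M (h1 v hv)) with e' | e' | e' | e'
      · exact absurd e' hv'.1
      rotate_right
      · exact absurd e' hv'.2
      all_goals
        rw [e, e']
        simp [mul_self M.S.hD.1 M.ha, mul_self M.S.hD.1 M.b_mem.1, M.b_mem.2.2.eq]

include hidx in
/-- kernel elements fixing `a` are inner -/
theorem inner_of_fix (hφ : φ ∈ kerQ M) (hfix : φ a = a) : φ ∈ M.core.map (inn G) := by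
  classical
  set V := pairGrp a b
  set H := M.core
  haveI hVn : (V.subgroupOf H).Normal := ⟨fun v hv x => by
    rw [Subgroup.mem_subgroupOf] at hv ⊢
    simp only [Subgroup.coe_mul, Subgroup.coe_inv]
    rw [(core_pair_commute M hv x.2).eq, mul_inv_cancel_right]
    exact hv⟩
  let Qf : Subgroup (MulAut G) :=
    { carrier := {ψ | ψ ∈ kerQ M ∧ ψ a = a}
      one_mem' := ⟨one_mem _, rfl⟩
      mul_mem' := by
        rintro ψ χ ⟨h1, h2⟩ ⟨g1, g2⟩
        exact ⟨mul_mem h1 g1, by rw [MulAut.mul_apply, g2, h2]⟩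
      inv_mem' := by
        rintro ψ ⟨h1, h2⟩
        refine ⟨inv_mem h1, ?_⟩
        conv_lhs => rw [← h2]
        exact ψ.symm_apply_apply a }
  have hfixV : ∀ ψ ∈ Qf, ∀ v ∈ V, ψ v = v := by
    rintro ψ ⟨h1, h2⟩ v hv
    have hb : ψ b = b := by
      rcases autStab_cases M h1.1 with ⟨-, eb⟩ | ⟨ea, -⟩
      · exact eb
      · exact absurd (h2.symm.trans ea) (Ne.symm M.b_mem.2.1)
    exact MonoidHom.eqOn_closure (f := ψ.toMonoidHom) (g := MonoidHom.id G)
      (fun y hy => by rcases hy with rfl | rfl; exacts [h2, hb]) hv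
  let J := jGrp a b
  have hJcen : ∀ {v : G}, v ∈ J → ∀ x ∈ H, v * x = x * v := fun hv x hx =>
    (core_pair_commute M (jGrp_le_pair M hv) hx).eq.symm
  -- the displacement
  have hcoe : ∀ (ψ : ↥Qf) (x : ↥H), (ψ : MulAut G) x * (x : G)⁻¹ ∈ J := fun ψ x =>
    trivial_mod_prod M hidx ψ.2.1 x x.2
  let δ : ↥Qf → (↥H ⧸ V.subgroupOf H) →* ↥J := fun ψ => QuotientGroup.lift _
    (MonoidHom.mk' (fun x => ⟨_, hcoe ψ x⟩) (fun x y => Subtype.ext (by
      show (ψ : MulAut G) ((x : G) * y) * ((x : G) * y)⁻¹ = _ * _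
      have h2 := hJcen (hcoe ψ y) x x.2
      calc (ψ : MulAut G) ((x : G) * y) * ((x : G) * y)⁻¹
          = (ψ : MulAut G) x * (x : G)⁻¹ * ((x : G) * ((ψ : MulAut G) y * (y : G)⁻¹)) * (x : G)⁻¹ := by
            rw [map_mul]; group
        _ = (ψ : MulAut G) x * (x : G)⁻¹ * ((ψ : MulAut G) y * (y : G)⁻¹) := by rw [← h2]; group)))
    (fun v hv => Subtype.ext (by
      show (ψ : MulAut G) v * (v : G)⁻¹ = 1
      rw [hfixV ψ ψ.2 v hv, mul_inv_cancel]))
  have hJfix : ∀ ψ ∈ Qf, ∀ v ∈ J, ψ v = v := fun ψ hψ v hv => hfixV ψ hψ v (jGrp_le_pair M hv)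
  have hJmul : ∀ v w : ↥J, v * w = w * v := fun v w =>
    Subtype.ext (hJcen v.2 w (pair_le_core M (jGrp_le_pair M w.2)))
  letI : CommGroup ↥J := { (inferInstance : Group ↥J) with mul_comm := hJmul }
  let Δ : ↥Qf →* ((↥H ⧸ V.subgroupOf H) →* ↥J) := MonoidHom.mk' δ (fun ψ χ => by
    refine MonoidHom.ext fun q => ?_
    obtain ⟨x, rfl⟩ := QuotientGroup.mk_surjective q
    refine Subtype.ext ?_
    show ((ψ * χ : ↥Qf) : MulAut G) x * (x : G)⁻¹ =
      (ψ : MulAut G) x * (x : G)⁻¹ * ((χ : MulAut G) x * (x : G)⁻¹)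
    have h2 := hJcen (hcoe χ x) x x.2
    have h3 : (ψ : MulAut G) ((χ : MulAut G) x * (x : G)⁻¹) = (χ : MulAut G) x * (x : G)⁻¹ :=
      hJfix ψ ψ.2 _ (hcoe χ x)
    calc ((ψ * χ : ↥Qf) : MulAut G) x * (x : G)⁻¹
        = (ψ : MulAut G) ((χ : MulAut G) x * (x : G)⁻¹) * ((ψ : MulAut G) x * (x : G)⁻¹) := by
          rw [Subgroup.coe_mul, MulAut.mul_apply, map_mul (ψ : MulAut G), map_inv]; group
      _ = (χ : MulAut G) x * (x : G)⁻¹ * ((ψ : MulAut G) x * (x : G)⁻¹) := by rw [h3]
      _ = _ := by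
        have := congrArg Subtype.val (hJmul ⟨_, hcoe χ x⟩ ⟨_, hcoe ψ x⟩)
        exact this)
  have hker : Δ.ker ≤ (V.map (inn G)).subgroupOf Qf := by
    intro ψ hψ
    rw [Subgroup.mem_subgroupOf]
    have hcore : ∀ x ∈ H, (ψ : MulAut G) x = x := fun x hx => by
      have := congrArg Subtype.val (DFunLike.congr_fun hψ (QuotientGroup.mk (⟨x, hx⟩ : ↥H)))
      exact mul_inv_eq_one.mp this
    -- trivial on the centraliser of the pair
    have hpq : ∀ k ∈ cen a b, (ψ : MulAut G) k * k⁻¹ ∈ V := by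
      intro k hk
      refine M.mem_pair_of_central_core (ψ.2.1.2 k hk) fun w hw => ?_
      have h1 := hcore _ (M.core_normal hk hw)
      rw [map_mul, map_mul, map_inv, hcore w hw] at h1
      have hw' := M.core_normal (inv_mem hk) hw
      have h2 := hcore _ hw'
      rw [map_mul, map_mul, map_inv, map_inv, hcore w hw, map_inv] at h2
      simp only [inv_inv] at h2
      show (ψ : MulAut G) k * k⁻¹ * w = w * ((ψ : MulAut G) k * k⁻¹)
      calc (ψ : MulAut G) k * k⁻¹ * w
          = (ψ : MulAut G) k * (k⁻¹ * w * k) * k⁻¹ := by group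
        _ = (ψ : MulAut G) k * (((ψ : MulAut G) k)⁻¹ * w * (ψ : MulAut G) k) * k⁻¹ := by rw [h2]
        _ = w * ((ψ : MulAut G) k * k⁻¹) := by group
    have hVmul : ∀ v w : ↥V, v * w = w * v := fun v w =>
      Subtype.ext (core_pair_commute M w.2 (pair_le_core M v.2)).eq
    letI : CommGroup ↥V := { (inferInstance : Group ↥V) with mul_comm := hVmul }
    let η : ↥(cen a b) →* ↥V := MonoidHom.mk' (fun k => ⟨_, hpq k k.2⟩) (fun k l => Subtype.ext (by
      show (ψ : MulAut G) ((k : G) * l) * ((k : G) * l)⁻¹ = _ * _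
      have h2 := (M.commute_pair (hpq l l.2) k.2).eq
      calc (ψ : MulAut G) ((k : G) * l) * ((k : G) * l)⁻¹
          = (ψ : MulAut G) k * (k : G)⁻¹ * ((k : G) * ((ψ : MulAut G) l * (l : G)⁻¹)) * (k : G)⁻¹ := by
            rw [map_mul]; group
        _ = (ψ : MulAut G) k * (k : G)⁻¹ * ((ψ : MulAut G) l * (l : G)⁻¹) := by rw [h2]; group))
    haveI := simple_SU_four M.hF
    have hη : η.ker.map M.four = ⊤ := by
      rcases ((inferInstance : η.ker.Normal).map M.four M.four_surjective).eq_bot_or_eq_top with h | h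
      · exfalso
        -- commutators lie in the kernel
        have hcomm : ∀ s t : Cfsg.SU 4 F 2, s * t = t * s := by
          intro s t
          obtain ⟨k, rfl⟩ := M.four_surjective s
          obtain ⟨l, rfl⟩ := M.four_surjective t
          have h1 : k * l * k⁻¹ * l⁻¹ ∈ η.ker := by
            rw [MonoidHom.mem_ker, map_mul, map_mul, map_mul, map_inv, map_inv, mul_comm (η k), mul_inv_cancel_right,
              mul_inv_cancel]
          have h' := Subgroup.mem_map_of_mem M.four h1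
          rw [h, Subgroup.mem_bot, map_mul, map_mul, map_mul, map_inv, map_inv, mul_inv_eq_one,
            mul_inv_eq_iff_eq_mul] at h'
          exact h'
        have h1 : Subgroup.center (Cfsg.SU 4 F 2) = ⊤ :=
          eq_top_iff.mpr fun x _ => Subgroup.mem_center_iff.mpr fun y => hcomm y x
        have h2 := PairModelM22.card_SU_four (F := F) M.hF
        rw [center_SU_four M.hF] at h1
        rw [← Subgroup.card_top, ← h1, Subgroup.card_bot] at h2
        norm_num at h2
      · exact h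
    have hK : ∀ k ∈ cen a b, (ψ : MulAut G) k = k := by
      intro k hk
      obtain ⟨l, hl, hle⟩ : M.four ⟨k, hk⟩ ∈ η.ker.map M.four := hη ▸ Subgroup.mem_top _
      have hd : ((⟨k, hk⟩ : ↥(cen a b)) * l⁻¹ : ↥(cen a b)).1 ∈ H :=
        M.mem_core.mpr ⟨_, show M.four ((⟨k, hk⟩ : ↥(cen a b)) * l⁻¹) = 1 by
          rw [map_mul, map_inv, hle, mul_inv_cancel]⟩
      have h1 := hcore _ hd
      have h2 : (ψ : MulAut G) (l : G) = l := mul_inv_eq_one.mp (congrArg Subtype.val hl)
      calc (ψ : MulAut G) k = (ψ : MulAut G) ((k * (l : G)⁻¹) * l) := by rw [inv_mul_cancel_right]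
        _ = (k * (l : G)⁻¹) * l := by rw [map_mul, show (ψ : MulAut G) (k * (l : G)⁻¹) = k * (l : G)⁻¹ from h1, h2]
        _ = k := by rw [inv_mul_cancel_right]
    have hψa : (ψ : MulAut G) a = a := ψ.2.2
    have hψb : (ψ : MulAut G) b = b := hK b M.b_mem_cen
    -- the perp set of `a`
    have hfar : ∀ x ∈ perp D a, ¬ Commute b x → (ψ : MulAut G) x = x ∨ (ψ : MulAut G) x = b * x * b := by
      intro x hx hbx
      have hux : (ψ : MulAut G) x ∈ perp D a := by simpa [hψa] using aut_perp M.S (φ := (ψ : MulAut G)) hx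
      have hnc : ¬ Commute b ((ψ : MulAut G) x) := fun h =>
        hbx ((commute_aut_iff (ψ : MulAut G) b x).mp (by rw [hψb]; exact h))
      rcases M.C.line_points M.b_mem hx hux hbx (fun w hw hbw hxw => by
        by_cases hwb : w = b
        · exact absurd (hwb ▸ hxw.symm) hbx
        · have hw' : (ψ : MulAut G) w = w := hK w (perp₂_cen ⟨hw, hw.1, hwb, hbw⟩)
          rw [← hw']
          exact (commute_aut_iff _ x w).mpr hxw) with h | h | h
      · exact absurd (show Commute b ((ψ : MulAut G) x) by rw [h]) hnc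
      · exact Or.inl h
      · exact Or.inr h
    have hadj : ∀ x ∈ perp D a, ¬ Commute b x → ∀ y ∈ perp D a, ¬ Commute b y → Commute x y →
        (ψ : MulAut G) x = x → (ψ : MulAut G) y = y := by
      intro x hx hbx y hy hby hxy hex
      refine (hfar y hy hby).resolve_right fun hey => ?_
      have h1 : Commute x (b * y * b) := by
        have := (commute_aut_iff (ψ : MulAut G) x y).mpr hxy
        rwa [hex, hey] at this
      have hD := M.S.hD.1
      have hbD := M.b_mem.1
      -- move to the conjugate of `x`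
      have h2 := (conj_comm_iff hD hbD).mpr h1
      rw [conj_self_inv hD hbD, braid hD hbD hx.1 hbx] at h2
      have h3 := (conj_comm_iff hD hx.1).mpr h2
      rw [conj_self_inv hD hx.1, conj_fix_of_commute hD hx.1 hxy] at h3
      exact hby h3
    have hall : ∀ x ∈ perp D a, ¬ Commute b x → ∀ y ∈ perp D a, ¬ Commute b y →
        (ψ : MulAut G) x = x → (ψ : MulAut G) y = y := by
      intro x hx hbx y hy hby hex
      by_cases hxy : Commute x y
      · exact hadj x hx hbx y hy hby hxy hex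
      obtain ⟨p, q, hp, hq, hbp, hbq, c1, c2, c3⟩ : ∃ p q, p ∈ perp D a ∧ q ∈ perp D a ∧
          ¬ Commute b p ∧ ¬ Commute b q ∧ Commute x p ∧ Commute p q ∧ Commute q y := by
        -- two non-commuting points have a common neighbour off `b` unless `b` is on their line
        have key : ∀ z ∈ perp D a, ¬ Commute z y → ¬ Commute b z → z ≠ y * b * y →
            ∃ w ∈ perp D a, Commute z w ∧ Commute w y ∧ ¬ Commute b w := by
          intro z hz hzy hbz hne
          by_contra hcon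
          push Not at hcon
          rcases M.C.line_points hz hy M.b_mem hzy (fun w hw c c' => hcon w hw c c'.symm) with h | h | h
          · exact hbz (h ▸ Commute.refl _)
          · exact hby (h ▸ Commute.refl _)
          · refine hne ?_
            rw [h, braid M.S.hD.1 hz.1 hy.1 hzy, conj_self_inv M.S.hD.1 hy.1]
        by_cases hxe : x = y * b * y
        · obtain ⟨p, hp, hpx, hxp, hbp⟩ := M.C.exists_off_nonedge M.b_mem hx hbx
          by_cases hpy : Commute p y
          · exact ⟨p, p, hp, hp, hbp, hbp, hxp, Commute.refl p, hpy⟩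
          · obtain ⟨w, hw, c1, c2, hbw⟩ := key p hp hpy hbp (hxe ▸ hpx)
            exact ⟨p, w, hp, hw, hbp, hbw, hxp, c1, c2⟩
        · obtain ⟨w, hw, c1, c2, hbw⟩ := key x hx hxy hbx hxe
          exact ⟨w, w, hw, hw, hbw, hbw, c1, Commute.refl w, c2⟩
      exact hadj q hq hbq y hy hby c3 (hadj p hp hbp q hq hbq c2 (hadj x hx hbx p hp hbp c1 hex))
    have hperp : ∀ (χ : MulAut G), (∀ y ∈ perp₂ D a b, χ y = y) → χ b = b →
        (∀ y ∈ perp D a, ¬ Commute b y → χ y = y) → ∀ y ∈ perp D a, χ y = y := by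
      intro χ h1 h2 h3 y hy
      by_cases hby : Commute b y
      · by_cases hyb : y = b
        · rw [hyb, h2]
        · exact h1 y ⟨hy, hy.1, hyb, hby⟩
      · exact h3 y hy hby
    have hbfix : ∀ {y : G}, Commute b y → inn G b y = y := fun h => by
      rw [MulAut.conj_apply, h.eq, mul_inv_cancel_right]
    by_cases hz : ∀ x ∈ perp D a, ¬ Commute b x → (ψ : MulAut G) x = x
    · rcases rigid M.S M.ha hψa (hperp _ (fun y hy => hK y (perp₂_cen hy)) hψb hz) with h | h <;> rw [h]
      · exact one_mem _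
      · exact ⟨a, Subgroup.subset_closure (by simp), rfl⟩
    · push Not at hz
      obtain ⟨x₀, hx₀, hbx₀, hne⟩ := hz
      have hb2 : inn G b * inn G b = 1 := by rw [← map_mul, mul_self M.S.hD.1 M.b_mem.1, map_one]
      have hχ : ∀ y ∈ perp D a, (inn G b * (ψ : MulAut G)) y = y := by
        refine hperp _ (fun y hy => ?_) ?_ (fun y hy hby => ?_)
        · rw [MulAut.mul_apply, hK y (perp₂_cen hy), hbfix hy.2.2.2]
        · rw [MulAut.mul_apply, hψb, hbfix (Commute.refl b)]
        · rw [MulAut.mul_apply, (hfar y hy hby).resolve_left fun he => hne (hall y hy hby x₀ hx₀ hbx₀ he),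
            MulAut.conj_apply, inv_eq M.S.hD.1 M.b_mem.1, conj_self_inv M.S.hD.1 M.b_mem.1]
      have hχa : (inn G b * (ψ : MulAut G)) a = a := by
        rw [MulAut.mul_apply, hψa, hbfix M.b_mem.2.2.symm]
      have hbV : inn G b ∈ V.map (inn G) := ⟨b, Subgroup.subset_closure (by simp), rfl⟩
      have h' : inn G b * (ψ : MulAut G) ∈ V.map (inn G) := by
        rcases rigid M.S M.ha hχa hχ with h | h <;> rw [h]
        · exact one_mem _
        · exact ⟨a, Subgroup.subset_closure (by simp), rfl⟩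
      have := mul_mem hbV h'
      rwa [← mul_assoc, hb2, one_mul] at this
  -- counting
  have hVcard : Nat.card ↥(V.map (inn G)) ≤ 4 := by
    rw [Subgroup.card_map_of_injective (inn_inj M), ← SetLike.coe_sort_coe, Nat.card_coe_set_eq]
    calc (V : Set G).ncard ≤ ({1, a, b, a * b} : Set G).ncard :=
          Set.ncard_le_ncard (fun v hv => by simpa using pair_mem M hv) (Set.toFinite _)
      _ ≤ 4 := by
          refine (Set.ncard_insert_le _ _).trans (Nat.succ_le_succ ((Set.ncard_insert_le _ _).trans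
            (Nat.succ_le_succ ((Set.ncard_insert_le _ _).trans ?_))))
          rw [Set.ncard_singleton]
  have hquot : Nat.card (↥H ⧸ V.subgroupOf H) * Nat.card ↥V = 2 ^ 10 := by
    rw [← M.card_core, Subgroup.card_eq_card_quotient_mul_card_subgroup (V.subgroupOf H),
      Nat.card_congr (Subgroup.subgroupOfEquivOfLe (pair_le_core M)).toEquiv]
  haveI : Finite ((↥H ⧸ V.subgroupOf H) →* ↥J) := Finite.of_injective _ DFunLike.coe_injective
  have hle : Nat.card ↥Qf ≤ 2 ^ 10 := by
    have e := Subgroup.card_eq_card_quotient_mul_card_subgroup Δ.ker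
    rw [Nat.card_congr (QuotientGroup.quotientKerEquivRange Δ).toEquiv] at e
    have h1 : Nat.card ↥Δ.range ≤ Nat.card (↥H ⧸ V.subgroupOf H) :=
      (Subgroup.card_le_card_group _).trans (card_hom_two_le _ _ (card_jGrp M))
    have h2 : Nat.card ↥Δ.ker ≤ Nat.card ↥V := by
      refine (Subgroup.card_le_of_le hker).trans (le_of_eq ?_)
      rw [Nat.card_congr (Subgroup.subgroupOfEquivOfLe (show V.map (inn G) ≤ Qf by
        rintro _ ⟨v, hv, rfl⟩
        refine ⟨(inn_mem_kerQ_iff M).mpr (pair_le_core M hv), ?_⟩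
        rw [MulAut.conj_apply, ← (core_pair_commute M hv M.a_mem_core).eq, mul_inv_cancel_right])).toEquiv,
        Subgroup.card_map_of_injective (inn_inj M)]
    rw [e, ← hquot]
    exact Nat.mul_le_mul h1 h2
  have hsub : M.core.map (inn G) ≤ Qf := by
    rintro _ ⟨x, hx, rfl⟩
    refine ⟨(inn_mem_kerQ_iff M).mpr hx, ?_⟩
    rw [MulAut.conj_apply, (mem_cen.mp (M.core_le hx)).1.eq, mul_inv_cancel_right]
  have heq : M.core.map (inn G) = Qf := Subgroup.eq_of_le_of_card_ge hsub (by
    rw [Subgroup.card_map_of_injective (inn_inj M), M.card_core]; exact hle)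
  rw [heq]
  exact ⟨hφ, hfix⟩

end Cfsg.Agent.Lib.FischerAut6
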