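import Mathlib
import Cfsg.Agent.Lib.FischerAut6.Extra
import Cfsg.Agent.Lib.LargeExtra.Basic

/-!
Type M(22) with an outer automorphism: the kernel subgroup is large extraspecial and is the
generalised Fitting subgroup of the stabiliser of `a * b`.

Owner: helper6.
-/

set_option autoImplicit false
set_option linter.style.haveILetI false
set_option linter.unusedSectionVars false

namespace Cfsg.Agent.Lib.FischerAut6

open Cfsg.Agent.Lib.FischerMTypes Cfsg.Agent.Lib.FischerMTypes.Basic Cfsg.Agent.Lib.FischerMTypes.Primitive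
  Cfsg.Agent.Lib.FischerMTypes.Levels Cfsg.Agent.Lib.FischerMTypes.PointModel
  Cfsg.Agent.Lib.FischerMTypes.TraceCounts Cfsg.Agent.Lib.FischerMTypes.PairModelM22
open Cfsg.Agent.Lib.FischerMTypes.PairModelM22.Model (cen cenProd mem_cen mem_cenProd perp₂_cen cen_le_cenProd)
open Cfsg.Agent.Lib.Components Cfsg.Agent.Lib.FStarTools
open scoped commutatorElement

/-- a self-centralising normal `p`-subgroup with almost simple quotient is the generalised Fitting subgroup -/
theorem genFitting_of_quotient {X : Type*} [Group X] [Finite X] {p : ℕ} [Fact p.Prime] (N : Subgroup X) [N.Normal]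
    (hp : IsPGroup p ↥N) (hcent : Subgroup.centralizer (N : Set X) ≤ N) {S : Type*} [Group S] [Finite S] [IsSimpleGroup S]
    (hS : ∃ x y : S, x * y ≠ y * x) (f : X →* MulAut S) (hf : Function.Surjective f) (hker : f.ker = N) :
    Cfsg.generalizedFittingSubgroup X = N := by
  classical
  have hsolN : Group.IsNilpotent ↥N := hp.isNilpotent
  have hNF : N ≤ Cfsg.fittingSubgroup X := Cores.le_fittingSubgroup hsolN
  have hlay : Cfsg.layer X = ⊥ := by
    by_contra hne
    obtain ⟨K, hK⟩ := Layer.layer_ne_bot_iff.mp hne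
    haveI : Group.IsSolvable ↥N := by have := hsolN; infer_instance
    refine Component.not_le_of_isSolvable (N := N) hK ?_
    exact (Subgroup.le_centralizer_iff.mp (hNF.trans (Component.fittingSubgroup_le_centralizer hK))).trans hcent
  rw [Cfsg.generalizedFittingSubgroup, hlay, bot_sup_eq]
  refine le_antisymm ?_ hNF
  set A := (Cfsg.fittingSubgroup X).map f with hA
  haveI hAn : A.Normal := Subgroup.Normal.map inferInstance _ hf
  haveI hAsol : Group.IsSolvable ↥A := by
    haveI := isSolvable_fitting (X := X)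
    exact Group.isSolvable_of_surjective (f.subgroupMap_surjective _)
  have hcz : Subgroup.center S = ⊥ := by
    rcases IsSimpleGroup.eq_bot_or_eq_top_of_normal (Subgroup.center S) inferInstance with h | h
    · exact h
    · obtain ⟨x, y, hxy⟩ := hS
      exact absurd (Subgroup.mem_center_iff.mp (h ▸ Subgroup.mem_top y) x) hxy
  have hinj := inn_injective (G := S) hcz
  set J := A.comap (inn S) with hJdef
  haveI : J.Normal := hAn.comap _
  have hAbot : A = ⊥ := by
    rcases IsSimpleGroup.eq_bot_or_eq_top_of_normal J inferInstance with hJ | hJ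
    · rw [Subgroup.eq_bot_iff_forall]
      intro β hβ
      refine MulEquiv.ext fun x => ?_
      rw [MulAut.one_apply]
      have hmem : inn S (β x * x⁻¹) ∈ A := by
        rw [map_mul, ← mul_inn_mul_inv, map_inv, mul_assoc, mul_assoc]
        refine mul_mem hβ ?_
        rw [← mul_assoc]
        exact hAn.conj_mem _ (inv_mem hβ) _
      have : β x * x⁻¹ ∈ J := hmem
      rw [hJ, Subgroup.mem_bot, mul_inv_eq_one] at this
      exact this
    · exfalso
      haveI : Group.IsSolvable S := by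
        haveI : Group.IsSolvable ↥J := Group.isSolvable_of_isSolvable_injective
          (f := ((inn S).comp J.subtype).codRestrict A fun x => x.2)
          (fun x y hxy => Subtype.ext (hinj (congrArg Subtype.val hxy)))
        exact Group.isSolvable_of_surjective (f := J.subtype) fun x => ⟨⟨x, hJ ▸ Subgroup.mem_top x⟩, rfl⟩
      obtain ⟨x, y, hxy⟩ := hS
      exact hxy ((IsSimpleGroup.comm_iff_isSolvable (G := S)).mpr inferInstance x y)
  intro x hx
  rw [← hker, MonoidHom.mem_ker, ← Subgroup.mem_bot, ← hAbot]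
  exact Subgroup.mem_map_of_mem _ hx

variable {G : Type*} [Group G] [Finite G] {D : Set G}
variable {F : Type} [Field F] [Fintype F]
variable {a b : G} (M : Model D F a b) (hidx : (inn G).range.index = 2)

theorem inn_prod_mem : inn G (a * b) ∈ kerQ M :=
  (inn_mem_kerQ_iff M).mpr (mul_mem M.a_mem_core M.b_mem_core)

theorem commute_prod {φ : MulAut G} (hφ : φ ∈ kerQ M) : Commute φ (inn G (a * b)) :=
  Subgroup.mem_centralizer_singleton_iff.mp (kerQ_le_autStab M hφ)

include M in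
theorem swap_prod {φ : MulAut G} (hφ : φ (a * b) = a * b) {x : G} (hx : x ∈ jGrp a b) : φ x = x := by
  rcases (mem_jGrp M).mp hx with rfl | rfl
  exacts [map_one φ, hφ]

include hidx in
theorem exists_swap_aut : ∃ u ∈ kerQ M, u a = b ∧ u b = a := by
  by_contra hcon
  push Not at hcon
  have hle : kerQ M ≤ M.core.map (inn G) := fun φ hφ => by
    refine inner_of_fix M hidx hφ ?_
    rcases autStab_cases M hφ.1 with ⟨ea, -⟩ | ⟨ea, eb⟩
    · exact ea
    · exact absurd eb (hcon φ hφ ea)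
  have := Subgroup.card_le_of_le hle
  rw [(card_kerQ_and_surj M hidx).1, Subgroup.card_map_of_injective (inn_inj M), M.card_core] at this
  norm_num at this

include hidx in
theorem kerQ_cases {u φ : MulAut G} (hu : u ∈ kerQ M) (hua : u a = b) (hφ : φ ∈ kerQ M) :
    ∃ x ∈ M.core, φ = inn G x ∨ φ = u * inn G x := by
  rcases autStab_cases M hφ.1 with ⟨ea, -⟩ | ⟨ea, eb⟩
  · obtain ⟨x, hx, he⟩ := inner_of_fix M hidx hφ ea
    exact ⟨x, hx, Or.inl he.symm⟩
  · have : (u⁻¹ * φ) a = a := by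
      rw [MulAut.mul_apply, ea, ← hua]
      exact u.symm_apply_apply a
    obtain ⟨x, hx, he⟩ := inner_of_fix M hidx (mul_mem (inv_mem hu) hφ) this
    exact ⟨x, hx, Or.inr (by rw [he, mul_inv_cancel_left])⟩

include hidx in
theorem swap_sq {u : MulAut G} (hu : u ∈ kerQ M) (hua : u a = b) (hub : u b = a) :
    u * u ∈ Subgroup.zpowers (inn G (a * b)) := by
  obtain ⟨c, hc, hce⟩ := inner_of_fix M hidx (mul_mem hu hu) (show (u * u) a = a by rw [MulAut.mul_apply, hua, hub])
  have huc : u c = c := by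
    refine inn_inj M ?_
    rw [← mul_inn_mul_inv, hce]; group
  have hcV : c ∈ pairGrp a b := by
    by_contra hcV
    -- the subgroup of elements with small displacements
    have hk : ∀ k ∈ cen a b, c * k * c⁻¹ * k⁻¹ ∈ jGrp a b := by
      intro k hk
      have h1 : inn G c k = u (u k) := by rw [hce, MulAut.mul_apply]
      set d := u k * k⁻¹ with hd
      have hdH : d ∈ M.core := hu.2 k hk
      have e : u (u k) * k⁻¹ = u d * d⁻¹ * (d * d) := by
        rw [hd, map_mul, map_inv]; group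
      show inn G c k * k⁻¹ ∈ _
      rw [h1, e]
      refine mul_mem (trivial_mod_prod M hidx hu d hdH) ?_
      rw [mem_jGrp M]
      exact M.sq_or hdH
    let W : Subgroup G :=
      { carrier := {x | x ∈ M.core ∧ ∀ k ∈ cen a b, x * k * x⁻¹ * k⁻¹ ∈ pairGrp a b}
        one_mem' := ⟨one_mem _, fun k _ => by simp⟩
        mul_mem' := by
          rintro x y ⟨hx, hx'⟩ ⟨hy, hy'⟩
          refine ⟨mul_mem hx hy, fun k hk => ?_⟩
          have h1 := (core_pair_commute M (hy' k hk) hx).eq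
          have e : x * y * k * (x * y)⁻¹ * k⁻¹ = (y * k * y⁻¹ * k⁻¹) * (x * k * x⁻¹ * k⁻¹) := by
            calc x * y * k * (x * y)⁻¹ * k⁻¹ = (x * (y * k * y⁻¹ * k⁻¹)) * (k * x⁻¹ * k⁻¹) := by group
              _ = _ := by rw [h1]; group
          rw [e]
          exact mul_mem (hy' k hk) (hx' k hk)
        inv_mem' := by
          rintro x ⟨hx, hx'⟩
          refine ⟨inv_mem hx, fun k hk => ?_⟩
          have h := inv_mem (hx' k hk)
          have h1 := (core_pair_commute M h (inv_mem hx)).eq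
          have e : x⁻¹ * k * x⁻¹⁻¹ * k⁻¹ = (x * k * x⁻¹ * k⁻¹)⁻¹ := by
            calc x⁻¹ * k * x⁻¹⁻¹ * k⁻¹ = x⁻¹ * (x * k * x⁻¹ * k⁻¹)⁻¹ * x := by group
              _ = _ := by rw [h1]; group
          rw [e]
          exact h }
    have hW : W = M.core := by
      refine irred M (fun v hv => ⟨pair_le_core M hv, fun k hk => ?_⟩) (fun x hx => hx.1) ?_
        ⟨c, ⟨hc, fun k hk' => jGrp_le_pair M (hk k hk')⟩, hcV⟩
      · rw [← (M.commute_pair hv hk).eq, mul_inv_cancel_right, mul_inv_cancel]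
        exact one_mem _
      · rintro k hk' w ⟨hw, hw'⟩
        refine ⟨M.core_normal hk' hw, fun l hl => ?_⟩
        have hm := mul_mem (mul_mem (inv_mem hk') hl) hk'
        have := hw' _ hm
        rw [show k * w * k⁻¹ * l * (k * w * k⁻¹)⁻¹ * l⁻¹ =
          k * (w * (k⁻¹ * l * k) * w⁻¹ * (k⁻¹ * l * k)⁻¹) * k⁻¹ by group,
          ← (M.commute_pair this hk').symm.eq, mul_inv_cancel_right]
        exact this
    -- the centraliser would fix the quotient
    obtain ⟨x, hx, -, -, hxV, -, -⟩ := not_mem_pair M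
    obtain ⟨hxK, -⟩ := M.mem_core.mp hx
    obtain ⟨y, hy, hne⟩ : ∃ y ∈ perp₂ D a b, ¬ Commute x y := by
      by_contra hcon
      push Not at hcon
      exact hxV (M.mem_pair_of_central hxK hcon)
    have h := (hW.symm.le hx).2 y (perp₂_cen hy)
    have hc2 : Commute y (x * y * x⁻¹ * y⁻¹) := M.commute_pair h (perp₂_cen hy)
    have hcy : Commute y (x * y * x⁻¹) := by
      have := hc2.mul_right (Commute.refl y)
      rwa [inv_mul_cancel_right] at this
    have hyD := hy.1.1
    have hy'D : x * y * x⁻¹ ∈ D := M.S.hD.2.1 x y hyD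
    rw [inv_eq M.S.hD.1 hyD] at h
    have hmul : ∀ {d : G}, x * y * x⁻¹ * y = d → x * y * x⁻¹ = d * y := fun {d} e => by
      rw [← e, mul_assoc _ y y, mul_self M.S.hD.1 hyD, mul_one]
    rcases pair_mem M h with e | e | e | e
    · refine hne (mul_inv_eq_iff_eq_mul.mp ?_)
      rw [hmul e, one_mul]
    · exact Primitive.mul_not_mem M.S.hD M.S.hprim M.S.hZ M.ha hyD hy.1.2.2 (Ne.symm hy.1.2.1)
        (hmul e ▸ hy'D)
    · exact Primitive.mul_not_mem M.S.hD M.S.hprim M.S.hZ M.b_mem.1 hyD hy.2.2.2 (Ne.symm hy.2.2.1)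
        (hmul e ▸ hy'D)
    · rcases FischerMTypes.PairModelM22.pair_unique M.S M.ha M.b_mem hy'D hyD hcy.symm e with ⟨-, h'⟩ | ⟨-, h'⟩
      · exact hy.2.2.1 h'
      · exact hy.1.2.1 h'
  have : c ∈ jGrp a b := by
    rw [mem_jGrp M]
    rcases pair_mem M hcV with h | h | h | h
    · exact Or.inl h
    · rw [h, hua] at huc; exact absurd huc M.b_mem.2.1
    · rw [h, hub] at huc; exact absurd huc.symm M.b_mem.2.1
    · exact Or.inr h
  rw [← hce]
  rcases (mem_jGrp M).mp this with rfl | rfl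
  · rw [map_one]; exact one_mem _
  · exact Subgroup.mem_zpowers _

open Cfsg.Agent.Lib.Unitary (herm_smul_left herm_smul_right herm_eq_zero_symm herm_add_left herm_add_right) in
open Cfsg.Agent.Lib.UnitaryFour.Transvection Cfsg.Agent.Lib.UnitaryFour.Stabilizer
  Cfsg.Agent.Lib.UnitaryFour.PointStab in
/-- a point off `b` fails to commute with two commuting points on some line through `b` -/
theorem exists_far_pair {x₀ : G} (hx : x₀ ∈ perp D a) (hbx : ¬ Commute b x₀) :
    ∃ p q, p ∈ D ∧ q ∈ D ∧ p ≠ q ∧ Commute p q ∧ ¬ Commute p x₀ ∧ ¬ Commute q x₀ ∧ p * q ∈ M.core := by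
  classical
  obtain ⟨x, hiso, hx0⟩ := exists_iso_four M.hF
  obtain ⟨v, hv, hv0, rfl⟩ := M.C.exists_pt hx
  set B := Cfsg.hermForm 6 F 2 (lin M.g x) v with hB
  set A := Cfsg.hermForm 6 F 2 M.e v with hA
  have hA0 : A ≠ 0 := fun h => hbx (by
    have := (M.C.pt_comm M.he M.he0 hv hv0).mpr h
    rwa [show M.C.pt M.e = b from M.hb] at this)
  have hval : ∀ c : F, Cfsg.hermForm 6 F 2 (lin M.g x + c • M.e) v = B + c * A := fun c => by
    rw [herm_add_left, herm_smul_left, hB, hA]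
  obtain ⟨o, ho0, ho1, -⟩ := exists_omega M.hF
  have hbad : ∀ c d : F, B + c * A = 0 → B + d * A = 0 → c = d := fun c d h1 h2 =>
    mul_right_cancel₀ hA0 (add_left_cancel (h1.trans h2.symm))
  obtain ⟨c, c', hcc, hc, hc'⟩ : ∃ c c' : F, c ≠ c' ∧ B + c * A ≠ 0 ∧ B + c' * A ≠ 0 := by
    by_cases h0 : B + 0 * A = 0
    · exact ⟨1, o, Ne.symm ho1, fun h => one_ne_zero (hbad _ _ h h0), fun h => ho0 (hbad _ _ h h0)⟩
    · by_cases h1 : B + 1 * A = 0
      · exact ⟨0, o, Ne.symm ho0, h0, fun h => ho1 (hbad _ _ h h1)⟩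
      · exact ⟨0, 1, zero_ne_one, h0, h1⟩
  have hm := M.pt_vec_mem hiso hx0
  have hnc : ∀ r : F, B + r * A ≠ 0 → ¬ Commute (M.C.pt (lin M.g x + r • M.e)) (M.C.pt v) := fun r hr h =>
    hr (hval r ▸ (M.C.pt_comm (M.iso_vec hiso r) (M.vec_ne hx0 r) hv hv0).mp h)
  refine ⟨_, _, (hm c).1.1, (hm c').1.1, fun h => hcc ?_, ?_, hnc c hc, hnc c' hc', ?_⟩
  · obtain ⟨k, -, hk⟩ := (M.C.pt_eq (M.iso_vec hiso c) (M.vec_ne hx0 c) (M.iso_vec hiso c') (M.vec_ne hx0 c')).mp h
    obtain ⟨h1, h2⟩ := M.vec_parallel hk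
    obtain rfl : k = 1 := smul_left_injective F hx0 (show k • x = (1 : F) • x by rw [one_smul]; exact h1.symm)
    rw [one_mul] at h2
    exact h2.symm
  · exact (M.C.pt_comm (M.iso_vec hiso c) (M.vec_ne hx0 c) (M.iso_vec hiso c') (M.vec_ne hx0 c')).mpr
      (by rw [herm_orth M.hF M.hfr, hiso])
  · refine M.mem_core.mpr ⟨mul_mem (perp₂_cen (hm c)) (perp₂_cen (hm c')), ?_⟩
    rw [show (⟨_, mul_mem (perp₂_cen (hm c)) (perp₂_cen (hm c'))⟩ : ↥(cen a b)) =
      ⟨_, perp₂_cen (hm c)⟩ * ⟨_, perp₂_cen (hm c')⟩ from rfl, map_mul, M.four_pt hiso hx0, M.four_pt hiso hx0,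
      tv_mul_self]

theorem cen_comm (a b : G) : cen a b = cen b a := by
  rw [cen, cen, Set.pair_comm]

/-- the core does not depend on the order of the pair -/
theorem core_swap (M' : Model D F b a) : M'.core = M.core := by
  classical
  haveI := simple_SU_four M.hF
  have hle : M'.core ≤ cen a b := (cen_comm (G := G) b a) ▸ M'.core_le
  set N := M'.core.subgroupOf (cen a b)
  have hN : N.Normal := ⟨fun n hn k => by
    rw [Subgroup.mem_subgroupOf] at hn ⊢
    exact M'.core_normal ((cen_comm (G := G) a b) ▸ k.2) hn⟩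
  have hcard : Nat.card ↥N = 2 ^ 10 := by
    rw [Nat.card_congr (Subgroup.subgroupOfEquivOfLe hle).toEquiv, M'.card_core]
  rcases (hN.map M.four M.four_surjective).eq_bot_or_eq_top with h | h
  · refine Subgroup.eq_of_le_of_card_ge (fun x hx => ?_) (by rw [M'.card_core, M.card_core])
    refine M.mem_core.mpr ⟨hle hx, ?_⟩
    have h' := Subgroup.mem_map_of_mem M.four (show (⟨x, hle hx⟩ : ↥(cen a b)) ∈ N from Subgroup.mem_subgroupOf.mpr hx)
    rwa [h, Subgroup.mem_bot] at h'
  · exfalso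
    have hd := Subgroup.card_dvd_of_surjective (M.four.subgroupMap N) (M.four.subgroupMap_surjective N)
    rw [h, Subgroup.card_top, hcard, PairModelM22.card_SU_four M.hF] at hd
    norm_num at hd

theorem inn_prod_central {φ : MulAut G} (hφ : φ ∈ kerQ M) {z : MulAut G}
    (hz : z ∈ Subgroup.zpowers (inn G (a * b))) : Commute φ z := by
  obtain ⟨n, rfl⟩ := hz
  exact (commute_prod M hφ).zpow_right n

include hidx in
theorem kerQ_sq {φ : MulAut G} (hφ : φ ∈ kerQ M) : φ * φ ∈ Subgroup.zpowers (inn G (a * b)) := by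
  obtain ⟨u, hu, hua, hub⟩ := exists_swap_aut M hidx
  obtain ⟨x, hx, h⟩ := kerQ_cases M hidx hu hua hφ
  have hcore : ∀ {y : G}, y = 1 ∨ y = a * b → inn G y ∈ Subgroup.zpowers (inn G (a * b)) := by
    rintro y (rfl | rfl)
    · rw [map_one]; exact one_mem _
    · exact Subgroup.mem_zpowers _
  rcases h with rfl | rfl
  · rw [← map_mul]; exact hcore (M.sq_or hx)
  · have hu2 := swap_sq M hidx hu hua hub
    have hδ : u⁻¹ x * x⁻¹ ∈ jGrp a b := trivial_mod_prod M hidx (inv_mem hu) x hx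
    have h1 : u * inn G x * (u * inn G x) = (u * u) * inn G (u⁻¹ x * x⁻¹ * (x * x)) := by
      rw [show u⁻¹ x * x⁻¹ * (x * x) = u⁻¹ x * x by group, map_mul, ← mul_inn_mul_inv u⁻¹ x]; group
    rw [h1]
    refine mul_mem hu2 (hcore ((mem_jGrp M).mp (mul_mem hδ ((mem_jGrp M).mpr (M.sq_or hx)))))

include hidx in
theorem kerQ_comm {φ ψ : MulAut G} (hφ : φ ∈ kerQ M) (hψ : ψ ∈ kerQ M) :
    φ * ψ * φ⁻¹ * ψ⁻¹ ∈ Subgroup.zpowers (inn G (a * b)) := by
  have h1 := kerQ_sq M hidx (mul_mem hφ hψ)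
  have h2 := inv_mem (kerQ_sq M hidx hφ)
  have h3 := inv_mem (kerQ_sq M hidx hψ)
  have hc : Commute ψ (φ * φ)⁻¹ := inn_prod_central M hψ h2
  have e : φ * ψ * φ⁻¹ * ψ⁻¹ = φ * ψ * (φ * ψ) * ((φ * φ)⁻¹ * (ψ * ψ)⁻¹) := by
    calc φ * ψ * φ⁻¹ * ψ⁻¹ = φ * ψ * (φ * ψ) * (ψ⁻¹ * (φ * φ)⁻¹) * ψ⁻¹ := by group
      _ = φ * ψ * (φ * ψ) * ((φ * φ)⁻¹ * ψ⁻¹) * ψ⁻¹ := by rw [hc.inv_left.eq]
      _ = φ * ψ * (φ * ψ) * ((φ * φ)⁻¹ * (ψ * ψ)⁻¹) := by group
  rw [e]
  exact mul_mem h1 (mul_mem h2 h3)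

include hidx in
theorem kerQ_center {φ : MulAut G} (hφ : φ ∈ kerQ M) (hc : ∀ ψ ∈ kerQ M, Commute φ ψ) :
    φ ∈ Subgroup.zpowers (inn G (a * b)) := by
  obtain ⟨u, hu, hua, hub⟩ := exists_swap_aut M hidx
  have hfix : φ a = a := by
    refine inn_inj M ?_
    rw [← mul_inn_mul_inv, (hc _ ((inn_mem_kerQ_iff M).mpr M.a_mem_core)).eq, mul_inv_cancel_right]
  obtain ⟨x, hx, rfl⟩ := inner_of_fix M hidx hφ hfix
  have hxV : x ∈ pairGrp a b := M.mem_pair_of_central_core hx fun w hw => inn_inj M (by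
    rw [map_mul, map_mul]
    exact (hc _ ((inn_mem_kerQ_iff M).mpr hw)).eq)
  have hux : u x = x := by
    refine inn_inj M ?_
    rw [← mul_inn_mul_inv, ← (hc u hu).eq, mul_inv_cancel_right]
  rcases pair_mem M hxV with h | h | h | h
  · rw [h, map_one]; exact one_mem _
  · rw [h, hua] at hux; exact absurd hux M.b_mem.2.1
  · rw [h, hub] at hux; exact absurd hux.symm M.b_mem.2.1
  · rw [h]; exact Subgroup.mem_zpowers _

include hidx in
theorem center_kerQ : (Subgroup.center ↥(kerQ M)).map (kerQ M).subtype = Subgroup.zpowers (inn G (a * b)) := by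
  refine le_antisymm ?_ ((Subgroup.zpowers_le).mpr ?_)
  · rintro _ ⟨z, hz, rfl⟩
    exact kerQ_center M hidx z.2 fun ψ hψ =>
      congrArg Subtype.val (Subgroup.mem_center_iff.mp hz ⟨ψ, hψ⟩).symm
  · exact ⟨⟨_, inn_prod_mem M⟩, Subgroup.mem_center_iff.mpr fun q => Subtype.ext (commute_prod M q.2).eq, rfl⟩

include hidx in
theorem kerQ_extraspecial : Cfsg.IsExtraspecial 2 ↥(kerQ M) := by
  haveI : Fact (Nat.Prime 2) := ⟨Nat.prime_two⟩
  set Q := kerQ M
  set Z := Subgroup.center ↥Q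
  have hP : IsPGroup 2 ↥Q := IsPGroup.iff_card.mpr ⟨11, (card_kerQ_and_surj M hidx).1⟩
  have hz : ∀ {w : ↥Q}, (w : MulAut G) ∈ Subgroup.zpowers (inn G (a * b)) → w ∈ Z := by
    intro w hw
    rw [← center_kerQ M hidx] at hw
    obtain ⟨w', hw', he⟩ := hw
    rwa [← show w' = w from Subtype.ext he]
  have hcard2 : Nat.card ↥Z = 2 := by
    rw [← Subgroup.card_subtype Q Z, center_kerQ M hidx, Nat.card_zpowers,
      orderOf_injective (inn G) (inn_inj M), ← Nat.card_zpowers]
    exact card_jGrp M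
  have hcle : commutator ↥Q ≤ Z := by
    rw [commutator_def, Subgroup.commutator_le]
    intro u _ v _
    exact hz (kerQ_comm M hidx u.2 v.2)
  have hcge : Z ≤ commutator ↥Q := by
    obtain ⟨x, y, hx, hy, hne, hall⟩ := M.exists_comm
    intro w hw
    have hw' : (w : MulAut G) ∈ Subgroup.zpowers (inn G (a * b)) := center_kerQ M hidx ▸ ⟨w, hw, rfl⟩
    have hxy : inn G (a * b) = inn G x * inn G y * (inn G x)⁻¹ * (inn G y)⁻¹ := by
      rw [← map_inv, ← map_inv, ← map_mul, ← map_mul, ← map_mul, ← commutatorElement_def]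
      exact congrArg _ ((M.comm_or hx hy).resolve_left hne).symm
    obtain ⟨n, hn⟩ := hw'
    have hmem : (⟨inn G (a * b), inn_prod_mem M⟩ : ↥Q) ∈ commutator ↥Q := by
      have := Subgroup.commutator_mem_commutator
        (Subgroup.mem_top (⟨inn G x, (inn_mem_kerQ_iff M).mpr hx⟩ : ↥Q))
        (Subgroup.mem_top (⟨inn G y, (inn_mem_kerQ_iff M).mpr hy⟩ : ↥Q))
      rw [show (⟨inn G (a * b), inn_prod_mem M⟩ : ↥Q) = ⁅(⟨inn G x, (inn_mem_kerQ_iff M).mpr hx⟩ : ↥Q),
        ⟨inn G y, (inn_mem_kerQ_iff M).mpr hy⟩⁆ from Subtype.ext hxy]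
      exact this
    rw [show w = (⟨inn G (a * b), inn_prod_mem M⟩ : ↥Q) ^ n from Subtype.ext (by simpa using hn.symm)]
    exact zpow_mem hmem n
  refine ⟨⟨hP, le_antisymm (PGroups.frattini_le_of_pow_commutator (p := 2) _ (fun u => ?_) hcle)
    (hcge.trans (PGroups.commutator_le_frattini hP)), le_antisymm hcle hcge⟩, hcard2⟩
  exact hz (by rw [SubgroupClass.coe_pow, sq]; exact kerQ_sq M hidx u.2)

include hidx in
theorem centralizer_kerQ :
    Subgroup.centralizer (kerQ M : Set (MulAut G)) = (Subgroup.center ↥(kerQ M)).map (kerQ M).subtype := by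
  refine le_antisymm (fun φ hφ => ?_) ?_
  · rw [center_kerQ M hidx]
    have hc : ∀ ψ ∈ kerQ M, Commute φ ψ := fun ψ hψ => (Subgroup.mem_centralizer_iff.mp hφ ψ hψ).symm
    have hfix : ∀ x ∈ M.core, φ x = x := fun x hx => inn_inj M (by
      rw [← mul_inn_mul_inv, (hc _ ((inn_mem_kerQ_iff M).mpr hx)).eq, mul_inv_cancel_right])
    have hab : φ (a * b) = a * b := hfix _ (mul_mem M.a_mem_core M.b_mem_core)
    refine kerQ_center M hidx ⟨hab, fun k hk => ?_⟩ hc
    refine M.centralizer_core fun w hw => ?_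
    have h2 := hfix _ (M.core_normal (inv_mem hk) hw)
    rw [map_mul, map_mul, map_inv, map_inv, hfix w hw, map_inv] at h2
    simp only [inv_inv] at h2
    show φ k * k⁻¹ * w = w * (φ k * k⁻¹)
    calc φ k * k⁻¹ * w = φ k * (k⁻¹ * w * k) * k⁻¹ := by group
      _ = φ k * ((φ k)⁻¹ * w * φ k) * k⁻¹ := by rw [h2]
      _ = w * (φ k * k⁻¹) := by group
  · rintro _ ⟨z, hz, rfl⟩
    exact Subgroup.mem_centralizer_iff.mpr fun q hq =>
      congrArg Subtype.val (Subgroup.mem_center_iff.mp hz ⟨q, hq⟩)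

include hidx in
theorem autStab_le_normalizer :
    Subgroup.centralizer (((Subgroup.center ↥(kerQ M)).map (kerQ M).subtype : Subgroup (MulAut G)) : Set (MulAut G)) ≤
      Subgroup.normalizer (kerQ M : Set (MulAut G)) := by
  intro φ hφ
  have hφC : φ ∈ autStab a b := by
    rw [Subgroup.mem_centralizer_singleton_iff]
    exact (Subgroup.mem_centralizer_iff.mp hφ _
      (by rw [center_kerQ M hidx]; exact Subgroup.mem_zpowers _)).symm
  haveI := kerQ_normal M
  rw [Subgroup.mem_normalizer_iff]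
  intro ψ
  constructor <;> intro h
  · have := (kerQ_normal M).conj_mem ⟨ψ, kerQ_le_autStab M h⟩ h ⟨φ, hφC⟩
    exact this
  · have h' : φ⁻¹ * (φ * ψ * φ⁻¹) * φ = ψ := by group
    have := (kerQ_normal M).conj_mem ⟨φ * ψ * φ⁻¹, kerQ_le_autStab M h⟩ h ⟨φ, hφC⟩⁻¹
    rw [Subgroup.mem_subgroupOf] at this
    simpa [mul_assoc] using this

include hidx in
/-- no non-trivial subgroup of odd order is normalised by the kernel subgroup -/
theorem odd_eq_bot (K : Subgroup (MulAut G)) (hK : Odd (Nat.card K))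
    (hQK : kerQ M ≤ Subgroup.normalizer (K : Set (MulAut G))) : K = ⊥ := by
  classical
  have hext := kerQ_extraspecial M hidx
  set t := inn G (a * b)
  have ht2 : t * t = 1 := by rw [← map_mul, prod_sq M, map_one]
  have hnorm : ∀ {q : MulAut G}, q ∈ kerQ M → ∀ k ∈ K, q * k * q⁻¹ ∈ K := fun hq k hk =>
    (Subgroup.mem_normalizer_iff.mp (hQK hq) k).mp hk
  -- the fixed points of `t`
  have hK0 : K ⊓ autStab a b = ⊥ := by
    refine LargeExtra.Basic.eq_bot_of_centralizes hext (centralizer_kerQ M hidx) (autStab_le_normalizer M hidx)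
      _ (hK.of_dvd_nat (Subgroup.card_dvd_of_le inf_le_left)) (fun q hq => ?_) ?_
    · haveI := kerQ_normal M
      rw [Subgroup.mem_normalizer_iff]
      intro k
      have hqC := kerQ_le_autStab M hq
      rw [Subgroup.mem_inf, Subgroup.mem_inf]
      refine and_congr (Subgroup.mem_normalizer_iff.mp (hQK hq) k) ?_
      constructor <;> intro h
      · exact mul_mem (mul_mem hqC h) (inv_mem hqC)
      · simpa [mul_assoc] using mul_mem (mul_mem (inv_mem hqC) h) hqC
    · intro k hk z hz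
      rw [center_kerQ M hidx] at hz
      obtain ⟨n, rfl⟩ := hz
      exact Commute.zpow_right (show Commute k t from Subgroup.mem_centralizer_singleton_iff.mp hk.2) n
  have hfixbot : ∀ k ∈ K, k (a * b) = a * b → k = 1 := fun k hk h => by
    rw [← Subgroup.mem_bot, ← hK0]
    exact ⟨hk, (mem_autStab M).mpr h⟩
  -- `t` inverts
  have hinv : ∀ k ∈ K, t * k * t⁻¹ = k⁻¹ :=
    LargeExtra.Basic.inverts_of_fixedPointFree ht2 K (fun k hk => hnorm (inn_prod_mem M) k hk)
      (fun k hk h => hfixbot k hk ((mem_autStab M).mp (Subgroup.mem_centralizer_singleton_iff.mpr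
        (mul_inv_eq_iff_eq_mul.mp h).symm)))
  -- nothing but the identity fixes one of the pair
  have side : ∀ d d' : G, d ∈ D → d' ∈ perp D d → d * d' = a * b → d ∈ M.core → d' ∈ M.core →
      (∀ x ∈ M.core, Commute x d ∧ Commute x d') →
      (∀ x₀ ∈ perp D d, ¬ Commute d' x₀ → ∃ p q, p ∈ D ∧ q ∈ D ∧ p ≠ q ∧ Commute p q ∧
        ¬ Commute p x₀ ∧ ¬ Commute q x₀ ∧ p * q ∈ M.core) →
      ∀ k ∈ K, k d = d → k = 1 := by
    intro d d' hd hd' hdd hdcore hd'core hcc hpq k hk hkd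
    by_contra hk1
    have hd'D := hd'.1
    have hinv' : inn G d' * k * (inn G d')⁻¹ = k⁻¹ := by
      have h1 := hinv k hk
      have hkc : inn G d * k * (inn G d)⁻¹ = k := by
        have := mul_inn_mul_inv k d
        rw [hkd] at this
        rw [← mul_inv_eq_iff_eq_mul.mp this]; group
      calc inn G d' * k * (inn G d')⁻¹ = inn G d' * (inn G d * k * (inn G d)⁻¹) * (inn G d')⁻¹ := by rw [hkc]
        _ = t * k * t⁻¹ := by
          rw [show t = inn G (d' * d) by rw [hd'.2.2.symm.eq, hdd], map_mul]; group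
        _ = k⁻¹ := h1
    have hinn : ∀ (ψ : MulAut G), ψ ∈ K → ψ d = d → ψ ≠ 1 →
        ¬ Commute (ψ d') d' ∧ ψ * ψ = inn G (ψ d' * d') := by
      intro ψ hψ hψd hψ1
      have hkc : inn G d * ψ * (inn G d)⁻¹ = ψ := by
        have := mul_inn_mul_inv ψ d
        rw [hψd] at this
        rw [← mul_inv_eq_iff_eq_mul.mp this]; group
      have hi : inn G d' * ψ * (inn G d')⁻¹ = ψ⁻¹ := by
        calc inn G d' * ψ * (inn G d')⁻¹ = inn G d' * (inn G d * ψ * (inn G d)⁻¹) * (inn G d')⁻¹ := by rw [hkc]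
          _ = t * ψ * t⁻¹ := by
            rw [show t = inn G (d' * d) by rw [hd'.2.2.symm.eq, hdd], map_mul]; group
          _ = ψ⁻¹ := hinv ψ hψ
      have hd'2 : (inn G d')⁻¹ = inn G d' := by rw [← map_inv, inv_eq M.S.hD.1 hd'D]
      have hsq : ψ * ψ = inn G (ψ d' * d') := by
        rw [map_mul, ← mul_inn_mul_inv]
        calc ψ * ψ = ψ * (inn G d' * ψ * (inn G d')⁻¹)⁻¹ := by rw [hi, inv_inv]
          _ = ψ * inn G d' * ψ⁻¹ * inn G d' := by rw [hd'2]; group; rw [zpow_neg_one, hd'2]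
      refine ⟨fun hc => hψ1 ?_, hsq⟩
      have h4 : ψ * ψ * (ψ * ψ) = 1 := by
        rw [hsq, ← map_mul, hc.symm.mul_mul_mul_comm, mul_self M.S.hD.1 (mem_image_of_aut M.S ψ hd'D),
          mul_self M.S.hD.1 hd'D, one_mul, map_one]
      have ho : orderOf ψ ∣ 4 := orderOf_dvd_of_pow_eq_one (by rw [← h4]; simp [pow_succ, mul_assoc])
      have hoo : Odd (orderOf ψ) := hK.of_dvd_nat (Subgroup.orderOf_mk ψ hψ ▸ orderOf_dvd_natCard _)
      refine orderOf_eq_one_iff.mp (Nat.eq_one_of_dvd_one ?_)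
      have hcop : Nat.Coprime (orderOf ψ) (2 ^ 2) := (hoo.coprime_two_right).pow_right 2
      exact hcop.dvd_of_dvd_mul_right (by simpa using ho)
    obtain ⟨hnc, -⟩ := hinn k hk hkd hk1
    have hkd'D : k d' ∈ perp D d := by
      have := aut_perp M.S (φ := k) hd'
      rwa [hkd] at this
    obtain ⟨p, q, hpD, hqD, hpq', hcpq, hpx, hqx, hpqc⟩ := hpq _ hkd'D (fun h => hnc h.symm)
    -- conjugate `k` by `p * q`
    set g := p * q
    set k' := inn G g * k * (inn G g)⁻¹
    have hk' : k' ∈ K := hnorm ((inn_mem_kerQ_iff M).mpr hpqc) k hk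
    have hfixg : ∀ y : G, Commute g y → (inn G g)⁻¹ y = y := fun y hy => by
      rw [← map_inv, MulAut.conj_apply, inv_inv, mul_assoc, ← hy.eq, inv_mul_cancel_left]
    have hk'd : k' d = d := by
      show inn G g (k ((inn G g)⁻¹ d)) = d
      rw [hfixg d (hcc g hpqc).1, hkd, MulAut.conj_apply, (hcc g hpqc).1.eq, mul_inv_cancel_right]
    have hk'd' : k' d' = g * k d' * g⁻¹ := by
      show inn G g (k ((inn G g)⁻¹ d')) = _
      rw [hfixg d' (hcc g hpqc).2, MulAut.conj_apply]
    set x₀ := k d'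
    have hx₀D : x₀ ∈ D := hkd'D.1
    have hD := M.S.hD.1
    -- the two conjugates commute and differ
    have e1 : g * x₀ * g⁻¹ = p * (x₀ * q * x₀) * p := by
      show p * q * x₀ * (p * q)⁻¹ = _
      rw [mul_inv_rev, inv_eq hD hpD, inv_eq hD hqD, ← braid hD hqD hx₀D hqx]; group
    have hcomm : Commute (g * x₀ * g⁻¹) x₀ := by
      rw [e1]
      refine (conj_comm_iff hD hpD).mp ?_
      rw [conj_self_inv hD hpD, braid hD hpD hx₀D hpx]
      exact (conj_comm_iff hD hx₀D).mpr hcpq.symm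
    have hne' : g * x₀ * g⁻¹ ≠ x₀ := by
      intro h
      rw [e1] at h
      have h' := congrArg (fun z => p * z * p) h
      rw [conj_self_inv hD hpD, braid hD hpD hx₀D hpx] at h'
      exact hpq' (by simpa using (mul_left_cancel (mul_right_cancel h')).symm)
    have hψ : (k⁻¹ * k') d = d := by
      rw [MulAut.mul_apply, hk'd]
      conv_lhs => rw [← hkd]
      exact k.symm_apply_apply d
    by_cases hψ1 : k⁻¹ * k' = 1
    · rw [inv_mul_eq_one] at hψ1
      exact hne' (by rw [← hk'd', ← hψ1])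
    · refine (hinn _ (mul_mem (inv_mem hk) hk') hψ hψ1).1 ?_
      have h3 := (commute_aut_iff k⁻¹ (g * x₀ * g⁻¹) x₀).mpr hcomm
      rw [MulAut.mul_apply, hk'd']
      rwa [show k⁻¹ x₀ = d' from k.symm_apply_apply d'] at h3
  have hcc : ∀ x ∈ M.core, Commute x a ∧ Commute x b := fun x hx => mem_cen.mp (M.core_le hx)
  have ha' : a ∈ perp D b := ⟨M.ha, Ne.symm M.b_mem.2.1, M.b_mem.2.2.symm⟩
  obtain ⟨M'⟩ := exists_model M.S M.b_mem.1 ha'
  have hA : ∀ k ∈ K, k a = a → k = 1 := side a b M.ha M.b_mem rfl M.a_mem_core M.b_mem_core hcc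
    fun x₀ hx₀ hb => exists_far_pair M hx₀ hb
  have hB : ∀ k ∈ K, k b = b → k = 1 := side b a M.b_mem.1 ha' M.b_mem.2.2.eq.symm M.b_mem_core M.a_mem_core
    (fun x hx => (hcc x hx).symm) fun x₀ hx₀ hb => by rw [← core_swap M M']; exact exists_far_pair M' hx₀ hb
  have hinvd : ∀ d : G, d ∈ M.core → d * d = 1 → (∀ k ∈ K, k d = d → k = 1) →
      ∀ k ∈ K, inn G d * k * (inn G d)⁻¹ = k⁻¹ := by
    intro d hd hd2 hf
    refine LargeExtra.Basic.inverts_of_fixedPointFree (by rw [← map_mul, hd2, map_one]) K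
      (fun k hk => hnorm ((inn_mem_kerQ_iff M).mpr hd) k hk) fun k hk h => hf k hk ?_
    refine inn_inj M ?_
    rw [← mul_inn_mul_inv, ← (mul_inv_eq_iff_eq_mul.mp h), mul_inv_cancel_right]
  rw [Subgroup.eq_bot_iff_forall]
  intro k hk
  have ea := hinvd a M.a_mem_core (mul_self M.S.hD.1 M.ha) hA
  have eb := hinvd b M.b_mem_core (mul_self M.S.hD.1 M.b_mem.1) hB
  have h2 : t * k * t⁻¹ = k := by
    calc t * k * t⁻¹ = inn G a * (inn G b * k * (inn G b)⁻¹) * (inn G a)⁻¹ := by
          rw [show t = inn G a * inn G b from map_mul _ _ _]; group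
      _ = inn G a * k⁻¹ * (inn G a)⁻¹ := by rw [eb k hk]
      _ = k := by rw [ea _ (inv_mem hk), inv_inv]
  exact hfixbot k hk ((mem_autStab M).mp (Subgroup.mem_centralizer_singleton_iff.mpr
    (mul_inv_eq_iff_eq_mul.mp h2).symm))

include hidx in
theorem genFitting_autStab :
    Cfsg.generalizedFittingSubgroup ↥(autStab a b) = (kerQ M).subgroupOf (autStab a b) := by
  haveI : Fact (Nat.Prime 2) := ⟨Nat.prime_two⟩
  haveI := kerQ_normal M
  haveI := simple_SU_four M.hF
  refine genFitting_of_quotient _ ((kerQ_extraspecial M hidx).1.1.of_equiv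
    (Subgroup.subgroupOfEquivOfLe (kerQ_le_autStab M)).symm) ?_ ?_ (actAut M) (card_kerQ_and_surj M hidx).2 (ker_actAut M)
  · intro c hc
    have h : (c : MulAut G) ∈ Subgroup.centralizer (kerQ M : Set (MulAut G)) := by
      rw [Subgroup.mem_centralizer_iff]
      intro q hq
      exact congrArg Subtype.val (Subgroup.mem_centralizer_iff.mp hc ⟨q, kerQ_le_autStab M hq⟩ hq)
    rw [centralizer_kerQ M hidx] at h
    obtain ⟨z, -, he⟩ := h
    rw [Subgroup.mem_subgroupOf, ← he]
    exact z.2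
  · by_contra hcon
    push Not at hcon
    have h1 : Subgroup.center (Cfsg.SU 4 F 2) = ⊤ :=
      eq_top_iff.mpr fun x _ => Subgroup.mem_center_iff.mpr fun y => hcon y x
    have h2 := PairModelM22.card_SU_four (F := F) M.hF
    rw [center_SU_four M.hF] at h1
    rw [← Subgroup.card_top, ← h1, Subgroup.card_bot] at h2
    norm_num at h2

include hidx in
theorem quotient_autStab [((kerQ M).subgroupOf (autStab a b)).Normal] :
    Nonempty (↥(autStab a b) ⧸ (kerQ M).subgroupOf (autStab a b) ≃* MulAut (Cfsg.PSU 4 F 2)) :=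
  ⟨((QuotientGroup.quotientMulEquivOfEq (ker_actAut M).symm).trans
    (QuotientGroup.quotientKerEquivOfSurjective (actAut M) (card_kerQ_and_surj M hidx).2)).trans
    (MulAut.congr (psuEquiv M.hF))⟩

include M hidx in
/-- the final form -/
theorem main (j : MulAut G) (hj : j = inn G (a * b)) (Q : Subgroup (MulAut G))
    (hQ : Q = (Cfsg.generalizedFittingSubgroup ↥(Subgroup.centralizer ({j} : Set (MulAut G)))).map
      (Subgroup.centralizer ({j} : Set (MulAut G))).subtype) :
    Cfsg.IsLargeExtraspecial Q ∧ Nat.card Q = 2 ^ 11 ∧ Q ≤ Subgroup.centralizer ({j} : Set (MulAut G)) ∧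
      ∃ (_ : (Q.subgroupOf (Subgroup.centralizer ({j} : Set (MulAut G)))).Normal),
        Nonempty (↥(Subgroup.centralizer ({j} : Set (MulAut G))) ⧸ Q.subgroupOf (Subgroup.centralizer ({j} : Set (MulAut G)))
          ≃* MulAut (Cfsg.PSU 4 F 2)) := by
  subst hj
  have hQk : Q = kerQ M := by
    rw [hQ, genFitting_autStab M hidx]
    exact Subgroup.map_subgroupOf_eq_of_le (kerQ_le_autStab M)
  subst hQk
  haveI := kerQ_normal M
  exact ⟨⟨kerQ_extraspecial M hidx, centralizer_kerQ M hidx, autStab_le_normalizer M hidx,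
    fun K hK hQK => odd_eq_bot M hidx K hK hQK⟩, (card_kerQ_and_surj M hidx).1, kerQ_le_autStab M,
    inferInstance, quotient_autStab M hidx⟩

end Cfsg.Agent.Lib.FischerAut6
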