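import Mathlib
import Cfsg.Agent.Lib.FischerMTypes.M24Data
import Cfsg.Agent.Lib.FischerMTypes.ParityM24
import Cfsg.Agent.Lib.FischerMTypes.IndexTwoLayer
import Cfsg.Agent.Lib.FischerMTypes.QuasiExtension
import Cfsg.Agent.Lib.FischerMTypes.TripleM24
import Cfsg.Agent.Lib.FischerMTypes.StepGroup
import Cfsg.Agent.Lib.FischerMTypes.QuasiM22

/-!
Type M(24): the centraliser in the derived group of the product of two commuting transpositions, as an
extension of a double cover of the type M(22) quotient.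

Owner: helper6.
-/

set_option autoImplicit false
set_option linter.style.haveILetI false
set_option linter.unusedSectionVars false

namespace Cfsg.Agent.Lib.FischerAut6.PairFiTwentyFour

open Cfsg.Agent.Lib.FischerMTypes Cfsg.Agent.Lib.FischerMTypes.Basic Cfsg.Agent.Lib.FischerMTypes.Primitive
  Cfsg.Agent.Lib.FischerMTypes.Levels Cfsg.Agent.Lib.FischerMTypes.Types
  Cfsg.Agent.Lib.FischerMTypes.Unique Cfsg.Agent.Lib.FischerMTypes.Rank Cfsg.Agent.Lib.FischerMTypes.Step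
open Cfsg.Agent.Lib.FischerMTypes.TraceCounts (Sys)
open Cfsg.Agent.Lib.FischerMTypes.M23Data (loc_conj)

universe u

variable {G : Type u} [Group G] [Finite G] {D : Set G}

/-- the two models, keeping the type of the lower one -/
theorem exists_steps (hD : Cfsg.IsThreeTranspositionGroup D) (hprim : Cfsg.IsPrimitiveUnderConj D)
    (h : Cfsg.IsOfTypeM24 G D) :
    ∃ (Q : Type u) (_ : Group Q) (_ : Finite Q) (E : Set Q) (Q₂ : Type u) (_ : Group Q₂) (_ : Finite Q₂)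
      (E₂ : Set Q₂) (F : Type) (_ : Field F) (_ : Fintype F) (_ : Sys E₂ F)
      (_ : StepData E E₂ 3510 693 180 126 6531840),
      Cfsg.IsOfTypeM23 Q E ∧ Cfsg.IsOfTypeM22 Q₂ E₂ ∧ Nonempty (StepData D E 31671 3510 693 351 4585351680) := by
  obtain ⟨hZ, d, hd, c, -, -, hH, -⟩ := h
  obtain ⟨hcl, hgen⟩ := image_erase_closed (perp_closed hD d) (Subgroup.closure (perp D d)) rfl
  set H := Subgroup.closure (perp D d)
  set E : Set (↥H ⧸ Subgroup.center ↥H) := (QuotientGroup.mk : ↥H → _) '' {x : ↥H | (x : G) ∈ perp D d}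
  have hE1 : (1 : ↥H ⧸ Subgroup.center ↥H) ∉ E := by
    rintro ⟨⟨y, hyH⟩, hy, hy1⟩
    exact im_ne_one hD hprim hZ hd hy hy1
  have hEeq : E \ {1} = E := Set.ext fun q => ⟨fun hq => hq.1, fun hq => ⟨hq, fun h1 => hE1 (h1 ▸ hq)⟩⟩
  rw [hEeq] at hcl hgen
  have hE3 : Cfsg.IsThreeTranspositionGroup E := ⟨hcl.1, conj_mem_all hcl hgen, hgen⟩
  have hEprim := TypeM23.primitive_of_M23 hE3 hH
  obtain ⟨hZ₂, d₂, hd₂, c₂, -, -, hH₂, -⟩ := id hH
  obtain ⟨hcl₂, hgen₂⟩ := image_erase_closed (perp_closed hE3 d₂) (Subgroup.closure (perp E d₂)) rfl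
  set H₂ := Subgroup.closure (perp E d₂)
  set E₂ : Set (↥H₂ ⧸ Subgroup.center ↥H₂) := (QuotientGroup.mk : ↥H₂ → _) '' {x : ↥H₂ | (x : ↥H ⧸ Subgroup.center ↥H) ∈ perp E d₂}
  have hE₂1 : (1 : ↥H₂ ⧸ Subgroup.center ↥H₂) ∉ E₂ := by
    rintro ⟨⟨y, hyH⟩, hy, hy1⟩
    exact im_ne_one hE3 hEprim hZ₂ hd₂ hy hy1
  have hE₂eq : E₂ \ {1} = E₂ := Set.ext fun q => ⟨fun hq => hq.1, fun hq => ⟨hq, fun h1 => hE₂1 (h1 ▸ hq)⟩⟩
  rw [hE₂eq] at hcl₂ hgen₂
  have hE₂3 : Cfsg.IsThreeTranspositionGroup E₂ := ⟨hcl₂.1, conj_mem_all hcl₂ hgen₂, hgen₂⟩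
  have hE₂prim := Connected.primitive_of_M22 hE₂3 hH₂
  obtain ⟨F, iF, iF', ⟨S22⟩⟩ := TraceCounts.exists_sys hE₂3 hE₂prim hH₂
  let L₂ : Loc E d₂ E₂ := ⟨QuotientGroup.mk' _, QuotientGroup.mk'_surjective _, QuotientGroup.ker_mk' _, rfl⟩
  have S23 : StepData E E₂ 3510 693 180 126 6531840 :=
    StepData.ofPrimitive hE3 hEprim hZ₂ (RankM22.rankData S22) fun a ha => Nonempty.some (by
      obtain ⟨g, rfl⟩ := hEprim.1 d₂ hd₂ a ha
      exact loc_conj hE3 L₂ g)
  let L : Loc D d E := ⟨QuotientGroup.mk' _, QuotientGroup.mk'_surjective _, QuotientGroup.ker_mk' _, rfl⟩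
  refine ⟨_, inferInstance, inferInstance, E, _, inferInstance, inferInstance, E₂, F, iF, iF', S22, S23, hH, hH₂,
    ⟨StepData.ofPrimitive hD hprim hZ (M23Data.rankData hE3 hEprim hH S22 S23) fun a ha => Nonempty.some ?_⟩⟩
  obtain ⟨g, rfl⟩ := hprim.1 d hd a ha
  exact loc_conj hD L g

variable {Q : Type u} [Group Q] [Finite Q] {E : Set Q} {Q₂ : Type u} [Group Q₂] [Finite Q₂] {E₂ : Set Q₂}
  {F : Type} [Field F] [Fintype F]
variable (S22 : Sys E₂ F) (S23 : StepData E E₂ 3510 693 180 126 6531840)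
  (S : StepData D E 31671 3510 693 351 4585351680)

include S22 S23 S in
theorem structure_two (hM : Cfsg.IsOfTypeM23 Q E) (h : Cfsg.IsOfTypeM24 G D) (L : Subgroup G)
    (hL : L = commutator G) {a b : G} (ha : a ∈ D) (hb : b ∈ perp D a)
    (K CL : Subgroup G) (hK : K = L ⊓ Subgroup.centralizer ({a, b} : Set G))
    (hCL : CL = L ⊓ Subgroup.centralizer ({a * b} : Set G))
    {X : Type*} [Group X] [Finite X] (eX : Q₂ ≃* X) (hX : Nat.card (MulAut X) = 2 * Nat.card X)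
    [hn : ((Subgroup.zpowers (a * b)).subgroupOf CL).Normal] :
    Cfsg.IsQuasisimple ↥K ∧ K = (Cfsg.generalizedFittingSubgroup ↥CL).map CL.subtype ∧ K ≤ CL ∧
      (K.subgroupOf CL).index = 2 ∧ a * b ∈ K ∧
      Nonempty (↥CL ⧸ (Subgroup.zpowers (a * b)).subgroupOf CL ≃* MulAut X) := by
  classical
  have P := M24Data.pinned S22 S23 hM h S
  have hD := S.hD
  have hprim := S.hprim
  obtain ⟨hZ, -⟩ := id h
  have P23 := M23Data.pinned S23.hD S23.hprim hM S22 S23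
  have memC : ∀ {g : G}, g ∈ Subgroup.centralizer ({a, b} : Set G) ↔ Commute g a ∧ Commute g b := by
    intro g
    rw [Subgroup.mem_centralizer_iff]
    simp only [Set.mem_insert_iff, Set.mem_singleton_iff, forall_eq_or_imp, forall_eq]
    exact ⟨fun hh => ⟨hh.1.symm, hh.2.symm⟩, fun hh => ⟨hh.1.symm, hh.2.symm⟩⟩
  have memK : ∀ {g : G}, g ∈ K ↔ g ∈ L ∧ Commute g a ∧ Commute g b := fun {g} => by
    rw [hK, Subgroup.mem_inf, memC]
  have memCL : ∀ {g : G}, g ∈ CL ↔ g ∈ L ∧ Commute g (a * b) := fun {g} => by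
    rw [hCL, Subgroup.mem_inf, Subgroup.mem_centralizer_singleton_iff]; exact Iff.rfl
  have hpar : a ∉ L := by rw [hL]; exact ParityM24.parity S22 S23 S hM P ha
  have hmem : ∀ {x y : G}, x ∈ D → y ∈ D → x * y ∈ L := fun {x y} hx hy => by
    rw [hL]; exact IndexTwoLayer.mul_mem_commutator hD hprim hx hy
  haveI hLn : L.Normal := by rw [hL]; infer_instance
  have hor : ∀ g, g ∈ L ∨ g * a ∈ L := IndexTwoLayer.mem_or hprim hD (fun x hx y hy => hmem hx hy) ha
  have hKCL : K ≤ CL := fun g hg => memCL.mpr ⟨(memK.mp hg).1, (memK.mp hg).2.1.mul_right (memK.mp hg).2.2⟩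
  have habK : a * b ∈ K := memK.mpr ⟨hmem ha hb.1,
    (Commute.refl a).mul_left hb.2.2.symm, hb.2.2.mul_left (Commute.refl b)⟩
  have inH : ∀ {g : G}, Commute g a → g ∈ Subgroup.closure (perp D a) := fun {g} hg => by
    rw [StepData.centralizer_eq S P ha, Subgroup.mem_centralizer_singleton_iff]
    exact hg.eq
  set q₀ := S.f ha b with hq₀
  have hq₀E : q₀ ∈ E := S.f_mem ha hb
  set H₂ := Subgroup.closure (perp E q₀) with hH₂
  have hbH : b ∈ Subgroup.closure (perp D a) := Subgroup.subset_closure hb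
  have hfK : ∀ {g : G}, g ∈ K → S.f ha g ∈ H₂ := fun {g} hg => by
    obtain ⟨-, hga, hgb⟩ := memK.mp hg
    rw [hH₂, StepData.centralizer_eq S23 P23 hq₀E, Subgroup.mem_centralizer_singleton_iff, hq₀,
      ← S.f_mul ha (inH hga) hbH, ← S.f_mul ha hbH (inH hga), hgb.eq]
  let ψ : ↥K →* ↥H₂ := MonoidHom.mk' (fun g => ⟨S.f ha g, hfK g.2⟩)
    fun g g' => Subtype.ext (S.f_mul ha (inH (memK.mp g.2).2.1) (inH (memK.mp g'.2).2.1))
  have hker : ∀ {g : G}, g ∈ Subgroup.closure (perp D a) → S.f ha g = 1 → g = 1 ∨ g = a := fun {g} hg hg1 => by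
    refine S.center_perp P.small ha hg fun u hu => ?_
    have := (S.f_eq_iff ha hg (one_mem _)).mp (hg1.trans (S.f_one ha).symm) u hu
    rwa [mul_one, Commute.inv_right_iff] at this
  have hψinj : Function.Injective ψ := by
    rw [injective_iff_map_eq_one]
    intro g hg
    rcases hker (inH (memK.mp g.2).2.1) (congrArg Subtype.val hg) with h1 | h1
    · exact Subtype.ext h1
    · exact absurd (h1 ▸ (memK.mp g.2).1) hpar
  have haH : a ∈ Subgroup.closure (perp D a) := inH (Commute.refl a)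
  have hfa : S.f ha a = 1 := by
    rw [← S.f_one ha, S.f_eq_iff ha haH (one_mem _)]
    intro u hu
    rw [mul_one, Commute.inv_right_iff]
    exact hu.2.2.symm
  have hψsurj : Function.Surjective ψ := by
    rintro ⟨q, hq⟩
    obtain ⟨g, hg, rfl⟩ := S.exists_f_closure ha q
    have hga : Commute g a := (commute_closure (u := a) (fun s hs => hs.2.2) g hg).symm
    have hmem' : g * b * g⁻¹ ∈ perp D a := conj_mem_of_mem_closure (perp_closed hD a) hg b hb
    rw [hH₂, StepData.centralizer_eq S23 P23 hq₀E, Subgroup.mem_centralizer_singleton_iff] at hq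
    have hgb : Commute g b := mul_inv_eq_iff_eq_mul.mp (S.f_inj ha hmem' hb (by
      rw [S.f_conj ha hg hbH, mul_inv_eq_iff_eq_mul]
      exact hq))
    rcases hor g with hgL | hgL
    · exact ⟨⟨g, memK.mpr ⟨hgL, hga, hgb⟩⟩, rfl⟩
    · refine ⟨⟨g * a, memK.mpr ⟨hgL, hga.mul_left (Commute.refl a), hgb.mul_left hb.2.2⟩⟩, Subtype.ext ?_⟩
      show S.f ha (g * a) = S.f ha g
      rw [S.f_mul ha hg haH, hfa, mul_one]
  let eψ : ↥K ≃* ↥H₂ := MulEquiv.ofBijective ψ ⟨hψinj, hψsurj⟩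
  have hQ₂simple : IsSimpleGroup Q₂ := QuasiM22.simple S22
  have hq₂ : Cfsg.IsQuasisimple ↥H₂ := by
    obtain ⟨x0, h0, x1, h1, x2, h2, x3, h3, x4, h4, x5, h5, he⟩ :=
      M23Data.exists_six S23.hD S23.hprim hM S22 S23 hq₀E
    exact S23.quasisimple P23.small hQ₂simple hq₀E (P23.self q₀ hq₀E)
      (S23.six_mem_commutator hq₀E h0 h1 h2 h3 h4 h5 he _)
  have hKq : Cfsg.IsQuasisimple ↥K := Components.Quasisimple.of_mulEquiv hq₂ eψ.symm
  haveI : (K.subgroupOf CL).Normal := ⟨fun n hn g => by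
    rw [Subgroup.mem_subgroupOf] at hn ⊢
    obtain ⟨hnL, hna, hnb⟩ := memK.mp hn
    obtain ⟨hgL, hgab⟩ := memCL.mp g.2
    have hc : (g : G) * a * (g : G)⁻¹ ∈ D := hD.2.1 _ _ ha
    have hc' : (g : G) * b * (g : G)⁻¹ ∈ D := hD.2.1 _ _ hb.1
    rcases Primitive.pair_unique hD hprim hZ hc hc' ha hb.1 (Step.conj_commute hb.2.2) hb.2.2
      (fun e => hb.2.1 (by simpa using e.symm)) (Ne.symm hb.2.1)
      (by rw [show (g : G) * a * (g : G)⁻¹ * ((g : G) * b * (g : G)⁻¹) = g * (a * b) * (g : G)⁻¹ by group,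
        hgab.eq, mul_inv_cancel_right]) with ⟨e1, e2⟩ | ⟨e1, e2⟩
    · refine memK.mpr ⟨hLn.conj_mem _ hnL _, ?_, ?_⟩
      · rw [← e1]; exact Step.conj_commute hna
      · rw [← e2]; exact Step.conj_commute hnb
    · refine memK.mpr ⟨hLn.conj_mem _ hnL _, ?_, ?_⟩
      · rw [← e2]; exact Step.conj_commute hnb
      · rw [← e1]; exact Step.conj_commute hna⟩
  set K₁ := K.subgroupOf CL with hK₁
  let eI : ↥K₁ ≃* ↥K := Subgroup.subgroupOfEquivOfLe hKCL
  have hq₁ : Cfsg.IsQuasisimple ↥K₁ := Components.Quasisimple.of_mulEquiv hKq eI.symm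
  -- the swap
  obtain ⟨g₀, hga, hgb, hgL⟩ : ∃ g : G, g * a * g⁻¹ = b ∧ g * b * g⁻¹ = a ∧ g ∈ L := by
    obtain ⟨g, hg⟩ := hprim.1 a ha b hb.1
    have hb' : g * b * g⁻¹ ∈ perp D b := by
      have := (conj_mem_perp_iff hD g a b).mpr hb
      rwa [hg] at this
    obtain ⟨h', hh', hhb⟩ := S.trans_perp hb.1 hb' ⟨ha, Ne.symm hb.2.1, hb.2.2.symm⟩
    have hfix : h' * b * h'⁻¹ = b := by
      rw [← (commute_closure (u := b) (fun s hs => hs.2.2) h' hh').eq, mul_inv_cancel_right]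
    have e1 : h' * g * a * (h' * g)⁻¹ = b := by
      rw [show h' * g * a * (h' * g)⁻¹ = h' * (g * a * g⁻¹) * h'⁻¹ by group, hg, hfix]
    have e2 : h' * g * b * (h' * g)⁻¹ = a := by
      rw [show h' * g * b * (h' * g)⁻¹ = h' * (g * b * g⁻¹) * h'⁻¹ by group, hhb]
    rcases hor (h' * g) with hl | hl
    · exact ⟨h' * g, e1, e2, hl⟩
    · refine ⟨h' * g * a, ?_, ?_, hl⟩
      · rw [show h' * g * a * a * (h' * g * a)⁻¹ = h' * g * (a * a * a⁻¹) * (h' * g)⁻¹ by group,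
          mul_inv_cancel_right, e1]
      · rw [show h' * g * a * b * (h' * g * a)⁻¹ = h' * g * (a * b * a⁻¹) * (h' * g)⁻¹ by group,
          hb.2.2.eq, mul_inv_cancel_right, e2]
  have hg₀CL : g₀ ∈ CL := memCL.mpr ⟨hgL, by
    show g₀ * (a * b) = a * b * g₀
    calc g₀ * (a * b) = (g₀ * a * g₀⁻¹) * (g₀ * b * g₀⁻¹) * g₀ := by group
      _ = a * b * g₀ := by rw [hga, hgb, hb.2.2.eq]⟩
  have hcases : ∀ x : ↥CL, ((x : G) * a * (x : G)⁻¹ = a ∧ (x : G) * b * (x : G)⁻¹ = b) ∨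
      ((x : G) * a * (x : G)⁻¹ = b ∧ (x : G) * b * (x : G)⁻¹ = a) := fun x => by
    refine Primitive.pair_unique hD hprim hZ (hD.2.1 _ _ ha) (hD.2.1 _ _ hb.1) ha hb.1
      (Step.conj_commute hb.2.2) hb.2.2 (fun e => hb.2.1 (by simpa using e.symm)) (Ne.symm hb.2.1) ?_
    rw [show (x : G) * a * (x : G)⁻¹ * ((x : G) * b * (x : G)⁻¹) = x * (a * b) * (x : G)⁻¹ by group,
      (memCL.mp x.2).2.eq, mul_inv_cancel_right]
  have hfix_iff : ∀ x : ↥CL, x ∈ K₁ ↔ (x : G) * a * (x : G)⁻¹ = a := fun x => by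
    rw [Subgroup.mem_subgroupOf, memK]
    constructor
    · rintro ⟨-, h1, -⟩
      rw [h1.eq, mul_inv_cancel_right]
    · intro h1
      rcases hcases x with ⟨-, h2⟩ | ⟨h3, -⟩
      · exact ⟨(memCL.mp x.2).1, mul_inv_eq_iff_eq_mul.mp h1, mul_inv_eq_iff_eq_mul.mp h2⟩
      · exact absurd (h3.symm.trans h1) hb.2.1
  have hidx : K₁.index = 2 := by
    rw [Subgroup.index_eq_two_iff]
    refine ⟨⟨g₀, hg₀CL⟩, fun x => ?_⟩
    rw [hfix_iff, hfix_iff, Subgroup.coe_mul]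
    rcases hcases x with ⟨h1, h2⟩ | ⟨h1, h2⟩
    · refine Or.inr ⟨h1, fun hx => hb.2.1 ?_⟩
      rw [show (x : G) * g₀ * a * ((x : G) * g₀)⁻¹ = x * (g₀ * a * g₀⁻¹) * (x : G)⁻¹ by group, hga, h2] at hx
      exact hx
    · refine Or.inl ⟨?_, fun hx => hb.2.1 (h1.symm.trans hx)⟩
      show (x : G) * g₀ * a * ((x : G) * g₀)⁻¹ = a
      rw [show (x : G) * g₀ * a * ((x : G) * g₀)⁻¹ = x * (g₀ * a * g₀⁻¹) * (x : G)⁻¹ by group, hga, h2]
  have hcent : Subgroup.centralizer (K₁ : Set ↥CL) ≤ K₁ := by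
    intro x hx
    rw [hfix_iff]
    rcases hcases x with ⟨h1, -⟩ | ⟨h1, -⟩
    · exact h1
    exfalso
    obtain ⟨y, hy, -⟩ : ∃ y, y ∈ perp₂ D a b ∧ True := by
      obtain ⟨y, hy⟩ : (perp₂ D a b).Nonempty :=
        Set.nonempty_of_ncard_ne_zero (by rw [S.ncard_edge ha hb]; norm_num)
      exact ⟨y, hy, trivial⟩
    have hay : a * y ∈ K := memK.mpr ⟨hmem ha hy.1.1, (Commute.refl a).mul_left hy.1.2.2.symm,
      hb.2.2.mul_left hy.2.2.2.symm⟩
    have := congrArg Subtype.val (Subgroup.mem_centralizer_iff.mp hx ⟨a * y, hKCL hay⟩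
      (Subgroup.mem_subgroupOf.mpr hay))
    simp only [Subgroup.coe_mul] at this
    have e : b * ((x : G) * y * (x : G)⁻¹) = a * y := by
      rw [← h1, show (x : G) * a * (x : G)⁻¹ * ((x : G) * y * (x : G)⁻¹) = x * (a * y) * (x : G)⁻¹ by group,
        ← this, mul_inv_cancel_right]
    have hxy : (x : G) * y * (x : G)⁻¹ ∈ D := hD.2.1 _ _ hy.1.1
    have hcxy : Commute b ((x : G) * y * (x : G)⁻¹) := by
      rw [← h1]; exact Step.conj_commute hy.1.2.2
    have hne : b ≠ (x : G) * y * (x : G)⁻¹ := fun he => by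
      rw [← he, mul_self hD.1 hb.1] at e
      exact hy.1.2.1 ((eq_inv_of_mul_eq_one_right e.symm).trans (inv_eq hD.1 ha))
    rcases Primitive.pair_unique hD hprim hZ hb.1 hxy ha hy.1.1 hcxy hy.1.2.2 hne
      (Ne.symm hy.1.2.1) e with ⟨h', -⟩ | ⟨h', -⟩
    · exact hb.2.1 h'
    · exact hy.2.2.1 h'.symm
  have hKK : K = (Cfsg.generalizedFittingSubgroup ↥CL).map CL.subtype := by
    rw [QuasiExtension.genFitting_eq hq₁ hcent, Subgroup.map_subgroupOf_eq_of_le hKCL]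
  -- the centre and the quotient
  let χ : ↥K₁ →* ↥H₂ := (eI.trans eψ).toMonoidHom
  let eQ₂ : ↥H₂ ⧸ Subgroup.center ↥H₂ ≃* Q₂ := S23.quotEquiv hq₀E
  have e₁ : ↥K₁ ⧸ Subgroup.center ↥K₁ ≃* X :=
    ((QuotientGroup.congr _ _ (eI.trans eψ) (TripleM24.map_center_equiv (eI.trans eψ))).trans eQ₂).trans eX
  have hzmap : (Subgroup.center ↥K₁).map K₁.subtype = (Subgroup.zpowers (a * b)).subgroupOf CL := by
    have hfab : ψ ⟨a * b, habK⟩ = ⟨q₀, P23.self q₀ hq₀E⟩ := Subtype.ext (by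
      show S.f ha (a * b) = q₀
      rw [S.f_mul ha haH hbH, hfa, one_mul])
    have hc : Subgroup.center ↥K = (Subgroup.zpowers (a * b)).subgroupOf K := by
      refine Subgroup.map_injective (f := eψ.toMonoidHom) eψ.injective ?_
      rw [TripleM24.map_center_equiv eψ, S23.center_eq P23.small hq₀E]
      rw [show (Subgroup.zpowers (a * b)).subgroupOf K = Subgroup.zpowers (⟨a * b, habK⟩ : ↥K) from
        Subgroup.map_injective (f := K.subtype) Subtype.val_injective (by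
          rw [Subgroup.map_subgroupOf_eq_of_le ((Subgroup.zpowers_le).mpr habK), MonoidHom.map_zpowers]; rfl),
        MonoidHom.map_zpowers]
      refine Subgroup.map_injective (f := (Subgroup.closure (perp E q₀)).subtype) Subtype.val_injective ?_
      rw [Subgroup.map_subgroupOf_eq_of_le ((Subgroup.zpowers_le).mpr (P23.self q₀ hq₀E)), MonoidHom.map_zpowers]
      exact (congrArg Subgroup.zpowers (congrArg Subtype.val hfab)).symm
    refine Subgroup.map_injective (f := CL.subtype) Subtype.val_injective ?_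
    rw [Subgroup.map_subgroupOf_eq_of_le ((Subgroup.zpowers_le).mpr (hKCL habK)), Subgroup.map_map,
      show CL.subtype.comp K₁.subtype = K.subtype.comp eI.toMonoidHom from rfl, ← Subgroup.map_map,
      TripleM24.map_center_equiv eI, hc, Subgroup.map_subgroupOf_eq_of_le ((Subgroup.zpowers_le).mpr habK)]
  have hcard : Nat.card ↥CL = Nat.card (MulAut X) * Nat.card (Subgroup.center ↥K₁) := by
    rw [hX, ← Nat.card_congr e₁.toEquiv, mul_assoc, ← Subgroup.card_eq_card_quotient_mul_card_subgroup,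
      ← Subgroup.index_mul_card K₁, hidx]
  exact ⟨hKq, hKK, hKCL, hidx, habK,
    QuasiExtension.aut_iso hq₁ hcent e₁ hcard _ hzmap.symm⟩

end Cfsg.Agent.Lib.FischerAut6.PairFiTwentyFour
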