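import Mathlib
import Cfsg.Agent.Lib.FischerAut6.Large
import Cfsg.Agent.Lib.FischerAut6.PairFiTwentyFour
import Cfsg.Prelude.Def_KGroupFacts
import Cfsg.Prelude.Def_Spor_Fi22
import Cfsg.Agent.S2079

/-!
Statement forms, relative to the uniqueness of the group of type M(22).

Owner: helper6.
-/

set_option autoImplicit false
set_option linter.style.haveILetI false
set_option linter.unusedSectionVars false

namespace Cfsg.Agent.Lib.FischerAut6

open Cfsg.Agent.Lib.FischerMTypes Cfsg.Agent.Lib.FischerMTypes.Basic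

theorem index_range_congr {G H : Type*} [Group G] [Group H] (e : G ≃* H) :
    (inn G).range.index = (inn H).range.index := by
  have h : (inn G).range.map (MulAut.congr e).toMonoidHom = (inn H).range := by
    rw [MonoidHom.range_eq_map, MonoidHom.range_eq_map, Subgroup.map_map]
    refine le_antisymm ?_ ?_
    · rintro _ ⟨g, -, rfl⟩
      exact ⟨e g, Subgroup.mem_top _, by ext x; simp [MulAut.congr]⟩
    · rintro _ ⟨g, -, rfl⟩
      exact ⟨e.symm g, Subgroup.mem_top _, by ext x; simp [MulAut.congr]⟩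
  rw [← h]
  exact (Subgroup.index_map_equiv _ (MulAut.congr e)).symm

theorem index_range_fiTwentyTwo {G : Type*} [Group G] (e : G ≃* Cfsg.Spor.Fi22) : (inn G).range.index = 2 := by
  rw [index_range_congr e]
  exact Cfsg.Agent.S2079.result

theorem card_aut {G : Type*} [Group G] [Finite G] (hZ : Subgroup.center G = ⊥) (e : G ≃* Cfsg.Spor.Fi22) :
    Nat.card (MulAut G) = 2 * Nat.card G := by
  rw [← Subgroup.index_mul_card (inn G).range, index_range_fiTwentyTwo e,
    Nat.card_congr (MonoidHom.ofInjective (inn_injective hZ)).symm.toEquiv]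

/-- the centraliser of the product of two commuting transpositions in the automorphism group -/
theorem pair_statement {G : Type*} [Group G] [Finite G] {D : Set G} (hD : Cfsg.IsThreeTranspositionGroup D)
    (hprim : Cfsg.IsPrimitiveUnderConj D) (h22 : Cfsg.IsOfTypeM22 G D) (e : G ≃* Cfsg.Spor.Fi22)
    (d₁ d₂ : G) (h₁ : d₁ ∈ D) (h₂ : d₂ ∈ D) (hne : d₁ ≠ d₂) (hc : Commute d₁ d₂) (j : MulAut G)
    (hj : j = MulAut.conj (d₁ * d₂)) (Q : Subgroup (MulAut G))
    (hQ : Q = (Cfsg.generalizedFittingSubgroup ↥(Subgroup.centralizer ({j} : Set (MulAut G)))).map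
      (Subgroup.centralizer ({j} : Set (MulAut G))).subtype) :
    Cfsg.IsLargeExtraspecial Q ∧ Nat.card Q = 2 ^ 11 ∧ Q ≤ Subgroup.centralizer ({j} : Set (MulAut G)) ∧
      ∃ (_ : (Q.subgroupOf (Subgroup.centralizer ({j} : Set (MulAut G)))).Normal) (F : Type) (_ : Field F)
        (_ : Fintype F), Fintype.card F = 4 ∧
        Nonempty (↥(Subgroup.centralizer ({j} : Set (MulAut G))) ⧸ Q.subgroupOf (Subgroup.centralizer ({j} : Set (MulAut G)))
          ≃* MulAut (Cfsg.PSU 4 F 2)) := by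
  obtain ⟨F, iF, iF', ⟨S⟩⟩ := TraceCounts.exists_sys hD hprim h22
  obtain ⟨M⟩ := PairModelM22.exists_model S h₁ (b := d₂) ⟨h₂, Ne.symm hne, hc⟩
  obtain ⟨h1, h2, h3, hn, hiso⟩ := main M (index_range_fiTwentyTwo e) j hj Q hQ
  exact ⟨h1, h2, h3, hn, F, iF, iF', by rw [M.hF]; norm_num, hiso⟩

universe u

/-- the centraliser in the derived group of a product of two commuting transpositions in type M(24) -/
theorem pair24_statement {G : Type u} [Group G] [Finite G] {D : Set G} (hD : Cfsg.IsThreeTranspositionGroup D)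
    (hprim : Cfsg.IsPrimitiveUnderConj D) (h24 : Cfsg.IsOfTypeM24 G D)
    (uniq : ∀ {Q : Type u} [Group Q] [Finite Q] (E : Set Q), Cfsg.IsThreeTranspositionGroup E →
      Cfsg.IsPrimitiveUnderConj E → Cfsg.IsOfTypeM22 Q E → Nonempty (Q ≃* Cfsg.Spor.Fi22))
    (L : Subgroup G) (hL : L = commutator G) (d₁ d₂ : G) (h₁ : d₁ ∈ D) (h₂ : d₂ ∈ D) (hne : d₁ ≠ d₂)
    (hc : Commute d₁ d₂) (K CL : Subgroup G) (hK : K = L ⊓ Subgroup.centralizer ({d₁, d₂} : Set G))
    (hCL : CL = L ⊓ Subgroup.centralizer ({d₁ * d₂} : Set G))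
    [hn : ((Subgroup.zpowers (d₁ * d₂)).subgroupOf CL).Normal] :
    Cfsg.IsQuasisimple ↥K ∧ K = (Cfsg.generalizedFittingSubgroup ↥CL).map CL.subtype ∧ K ≤ CL ∧
      (K.subgroupOf CL).index = 2 ∧ d₁ * d₂ ∈ K ∧
      Nonempty (↥CL ⧸ (Subgroup.zpowers (d₁ * d₂)).subgroupOf CL ≃* MulAut Cfsg.Spor.Fi22) := by
  obtain ⟨Q, iQ, iQ', E, Q₂, iQ₂, iQ₂', E₂, F, iF, iF', S22, S23, hM, h22, ⟨S⟩⟩ :=
    PairFiTwentyFour.exists_steps hD hprim h24
  obtain ⟨e⟩ := uniq E₂ S22.hD S22.hprim h22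
  haveI : Finite Cfsg.Spor.Fi22 := Finite.of_equiv Q₂ e.toEquiv
  refine PairFiTwentyFour.structure_two S22 S23 S hM h24 L hL h₁ ⟨h₂, Ne.symm hne, hc⟩ K CL hK hCL e ?_
  rw [← Nat.card_congr e.toEquiv, ← card_aut S22.hZ e, Nat.card_congr (MulAut.congr e).toEquiv]

end Cfsg.Agent.Lib.FischerAut6
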